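import Groth.Agent.Lib.WeilExt.Algebra
import Groth.Agent.Lib.Regular.UFD
import Groth.Agent.Lib.FinCond.Components
import Groth.Agent.H26.Purity
import Groth.Agent.H26.SectionExtend
import Groth.Agent.H75.Spread.Basic
import Groth.Agent.S4991
import Groth.Prelude.Def_Neron
import Mathlib.CategoryTheory.Monoidal.Cartesian.Grp
import Mathlib.AlgebraicGeometry.Morphisms.Smooth
import Mathlib.AlgebraicGeometry.Morphisms.Separated
import Mathlib.AlgebraicGeometry.Sites.Fpqc

/-!
# Weil's extension theorem for maps into group schemes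

A rational map from a scheme smooth over a Dedekind domain to a separated group scheme locally of
finite type, defined on a fibrewise dense open containing the points of codimension at most one,
is defined everywhere.
-/

universe u

open CategoryTheory CategoryTheory.Limits MonoidalCategory CartesianMonoidalCategory MonObj
open AlgebraicGeometry TopologicalSpace

namespace Groth.Agent.Lib.WeilExt.Basic

variable {R : Type u} [CommRing R] [IsDedekindDomain R]

theorem isRegularLocalRing_stalk {X : Scheme.{u}} (p : X ⟶ Spec (CommRingCat.of R)) [Smooth p]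
    (x : X) : IsRegularLocalRing (X.presheaf.stalk x) := by
  have : IsLocallyNoetherian (Spec (CommRingCat.of R)) := inferInstance
  refine (Groth.Agent.S4991.result p x ⟨⊤, trivial, inferInstance⟩).mpr ?_
  let q : PrimeSpectrum R := p.base x
  have : IsRegularLocalRing (Localization.AtPrime q.asIdeal) :=
    IsRegularRing.isRegularLocalRing_localization q.asIdeal
  exact IsRegularLocalRing.of_ringEquiv
    (IsLocalization.algEquiv q.asIdeal.primeCompl (Localization.AtPrime q.asIdeal)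
      ((Spec.structureSheaf R).presheaf.stalk q)).toRingEquiv

theorem isReduced_of_smooth {X : Scheme.{u}} (p : X ⟶ Spec (CommRingCat.of R)) [Smooth p] :
    IsReduced X :=
  haveI : ∀ x : X, _root_.IsReduced (X.presheaf.stalk x) := fun x =>
    haveI := isRegularLocalRing_stalk p x
    haveI := Groth.Agent.Lib.Regular.Quotient.isDomain (X.presheaf.stalk x)
    inferInstance
  isReduced_of_isReduced_stalk X

theorem isLocallyNoetherian_of_smooth {X : Scheme.{u}} (p : X ⟶ Spec (CommRingCat.of R)) [Smooth p] :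
    IsLocallyNoetherian X :=
  LocallyOfFiniteType.isLocallyNoetherian p

/-- Agreement on a dense open. -/
theorem eq_of_dense {X G S : Scheme.{u}} [IsReduced X] (pG : G ⟶ S) [IsSeparated pG] (g₁ g₂ : X ⟶ G)
    (h : g₁ ≫ pG = g₂ ≫ pG) (U : X.Opens) (hU : Dense (U : Set X))
    (he : U.ι ≫ g₁ = U.ι ≫ g₂) : g₁ = g₂ := by
  have : IsDominant U.ι := ⟨by rw [DenseRange, Scheme.Opens.range_ι]; exact hU⟩
  exact ext_of_isDominant_of_isSeparated pG h U.ι he

/-- An open subscheme as a scheme over the base. -/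
noncomputable abbrev ov {P S : Scheme.{u}} (q : P ⟶ S) (O : P.Opens) : Over S := Over.mk (O.ι ≫ q)

/-- Inclusions of open subschemes over the base. -/
noncomputable abbrev incl {P S : Scheme.{u}} (q : P ⟶ S) {O O' : P.Opens} (h : O ≤ O') :
    ov q O ⟶ ov q O' :=
  Over.homMk (P.homOfLE h) (by simp)

variable {X G : Scheme.{u}} (pX : X ⟶ Spec (CommRingCat.of R)) (pG : G ⟶ Spec (CommRingCat.of R))
  [Smooth pX] [GrpObj (Over.mk pG)] [IsSeparated pG] [LocallyOfFiniteType pG]
  (U : X.Opens)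

/-- The structure morphism of the product of `X` with itself. -/
noncomputable abbrev q : pullback pX pX ⟶ Spec (CommRingCat.of R) := pullback.fst pX pX ≫ pX

/-- Pairs of points of `U`. -/
noncomputable abbrev U2 : (pullback pX pX).Opens :=
  pullback.fst pX pX ⁻¹ᵁ U ⊓ pullback.snd pX pX ⁻¹ᵁ U

variable (f : (U : Scheme.{u}) ⟶ G) (hf : f ≫ pG = U.ι ≫ pX)

/-- `f` composed with the first projection. -/
noncomputable def af : ov (q pX) (U2 pX U) ⟶ Over.mk pG :=
  Over.homMk ((pullback.fst pX pX).resLE U (U2 pX U) inf_le_left ≫ f) (by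
    change (_ ≫ f) ≫ pG = _
    rw [Category.assoc, hf, Scheme.Hom.resLE_comp_ι_assoc]; rfl)

/-- `f` composed with the second projection, on an open mapping into `U`. -/
noncomputable def bf (O : (pullback pX pX).Opens) (h : O ≤ pullback.snd pX pX ⁻¹ᵁ U) :
    ov (q pX) O ⟶ Over.mk pG :=
  Over.homMk ((pullback.snd pX pX).resLE U O h ≫ f) (by
    change (_ ≫ f) ≫ pG = _
    rw [Category.assoc, hf, Scheme.Hom.resLE_comp_ι_assoc, ← pullback.condition]; rfl)

theorem incl_bf {O O' : (pullback pX pX).Opens} (hle : O ≤ O')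
    (h : O' ≤ pullback.snd pX pX ⁻¹ᵁ U) :
    incl (q pX) hle ≫ bf pX pG U f hf O' h = bf pX pG U f hf O (hle.trans h) := by
  apply Over.OverMorphism.ext
  change (pullback pX pX).homOfLE hle ≫ _ ≫ f = _ ≫ f
  rw [Scheme.Hom.map_resLE_assoc]

/-- The difference map `(a, b) ↦ f a * (f b)⁻¹`. -/
noncomputable def F : ov (q pX) (U2 pX U) ⟶ Over.mk pG :=
  af pX pG U f hf * (bf pX pG U f hf (U2 pX U) inf_le_right)⁻¹

theorem diag_mem {y : X} (hy : y ∈ U) : pullback.diagonal pX y ∈ U2 pX U := by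
  have h1 : pullback.fst pX pX (pullback.diagonal pX y) = y := by
    rw [← Scheme.Hom.comp_apply, pullback.diagonal_fst]; rfl
  have h2 : pullback.snd pX pX (pullback.diagonal pX y) = y := by
    rw [← Scheme.Hom.comp_apply, pullback.diagonal_snd]; rfl
  exact ⟨by change pullback.fst pX pX (pullback.diagonal pX y) ∈ U; rwa [h1],
    by change pullback.snd pX pX (pullback.diagonal pX y) ∈ U; rwa [h2]⟩

/-- On the diagonal the difference map is the unit. -/
theorem F_diag {y : X} (hy : y ∈ U) :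
    (F pX pG U f hf).left ⟨_, diag_mem pX U hy⟩ = (η[Over.mk pG]).left (pX y) := by
  let d : Over.mk (U.ι ≫ pX) ⟶ ov (q pX) (U2 pX U) :=
    Over.homMk ((pullback.diagonal pX).resLE (U2 pX U) U fun z hz => diag_mem pX U hz) (by
      change _ ≫ (U2 pX U).ι ≫ pullback.fst pX pX ≫ pX = _
      rw [Scheme.Hom.resLE_comp_ι_assoc, pullback.diagonal_fst_assoc]; rfl)
  have ha : d ≫ af pX pG U f hf = Over.homMk f hf := by
    apply Over.OverMorphism.ext
    change _ ≫ _ ≫ f = f
    have e : (pullback.diagonal pX).resLE (U2 pX U) U (fun z hz => diag_mem pX U hz) ≫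
        (pullback.fst pX pX).resLE U (U2 pX U) inf_le_left = 𝟙 _ := by
      rw [← cancel_mono U.ι, Category.assoc, Scheme.Hom.resLE_comp_ι,
        Scheme.Hom.resLE_comp_ι_assoc, pullback.diagonal_fst, Category.comp_id, Category.id_comp]
    exact (reassoc_of% e) f
  have hb : d ≫ bf pX pG U f hf (U2 pX U) inf_le_right = Over.homMk f hf := by
    apply Over.OverMorphism.ext
    change _ ≫ _ ≫ f = f
    have e : (pullback.diagonal pX).resLE (U2 pX U) U (fun z hz => diag_mem pX U hz) ≫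
        (pullback.snd pX pX).resLE U (U2 pX U) inf_le_right = 𝟙 _ := by
      rw [← cancel_mono U.ι, Category.assoc, Scheme.Hom.resLE_comp_ι,
        Scheme.Hom.resLE_comp_ι_assoc, pullback.diagonal_snd, Category.comp_id, Category.id_comp]
    exact (reassoc_of% e) f
  have h : d ≫ F pX pG U f hf = 1 := by
    rw [F, MonObj.comp_mul, GrpObj.comp_inv, ha, hb, mul_inv_cancel]
  have h' := congr(($h).left (⟨y, hy⟩ : (U : Scheme.{u})))
  have hd : d.left (⟨y, hy⟩ : (U : Scheme.{u})) = ⟨_, diag_mem pX U hy⟩ := by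
    apply (U2 pX U).ι.isOpenEmbedding.injective
    rw [← Scheme.Hom.comp_apply]
    change ((pullback.diagonal pX).resLE (U2 pX U) U _ ≫ (U2 pX U).ι) _ = _
    rw [Scheme.Hom.resLE_comp_ι, Scheme.Hom.comp_apply]
    rfl
  rw [Over.comp_left, Scheme.Hom.comp_apply, hd] at h'
  rw [h', Hom.one_def, Over.comp_left, Scheme.Hom.comp_apply]
  congr 1

/-- The difference map extends to a neighbourhood of every point of the diagonal. -/
theorem exists_extension_diag (hcodim : ∀ x : X, x ∉ U → (2 : WithBot ℕ∞) ≤ ringKrullDim (X.presheaf.stalk x))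
    (x : X) :
    ∃ (W : (pullback pX pX).Opens) (gW : ov (q pX) W ⟶ Over.mk pG),
      pullback.diagonal pX x ∈ W ∧
      incl (q pX) (inf_le_left : W ⊓ U2 pX U ≤ W) ≫ gW =
        incl (q pX) (inf_le_right : W ⊓ U2 pX U ≤ U2 pX U) ≫ F pX pG U f hf := by
  have : Smooth (q pX) := inferInstanceAs (Smooth (pullback.fst pX pX ≫ pX))
  have : IsLocallyNoetherian (pullback pX pX) := isLocallyNoetherian_of_smooth (q pX)
  have : IsLocallyNoetherian X := isLocallyNoetherian_of_smooth pX
  set x₂ : (pullback pX pX : Scheme.{u}) := pullback.diagonal pX x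
  let O := (pullback pX pX).presheaf.stalk x₂
  let B := X.presheaf.stalk x
  have := isRegularLocalRing_stalk (q pX) x₂
  have := isRegularLocalRing_stalk pX x
  have : IsDomain O := Groth.Agent.Lib.Regular.Quotient.isDomain _
  have : IsDomain B := Groth.Agent.Lib.Regular.Quotient.isDomain _
  have : UniqueFactorizationMonoid O := Groth.Agent.Lib.Regular.UFD.uniqueFactorizationMonoid _
  obtain ⟨_, ⟨Ω, hΩ, rfl⟩, hxΩ, -⟩ := G.isBasis_affineOpens.exists_subset_of_mem_open
    (Set.mem_univ ((η[Over.mk pG]).left (pX x))) isOpen_univ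
  have : IsAffine (Ω : Scheme.{u}) := hΩ
  let UΩ : (pullback pX pX).Opens := (U2 pX U).ι ''ᵁ ((F pX pG U f hf).left ⁻¹ᵁ Ω)
  have hUΩ : UΩ ≤ U2 pX U := Scheme.Opens.ι_image_le _ _
  let FΩ : (UΩ : Scheme.{u}) ⟶ (Ω : Scheme.{u}) :=
    IsOpenImmersion.lift (Scheme.Opens.ι Ω) ((pullback pX pX).homOfLE hUΩ ≫ (F pX pG U f hf).left) (by
      rw [Scheme.Opens.range_ι]
      rintro _ ⟨⟨w, z, hz, rfl⟩, rfl⟩
      rw [Scheme.Hom.comp_apply]
      have e : (pullback pX pX).homOfLE hUΩ ⟨_, ⟨z, hz, rfl⟩⟩ = z := by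
        apply (U2 pX U).ι.isOpenEmbedding.injective
        rw [← Scheme.Hom.comp_apply, Scheme.homOfLE_ι]; rfl
      rw [e]
      exact hz)
  have hFΩ : FΩ ≫ (Scheme.Opens.ι Ω) = (pullback pX pX).homOfLE hUΩ ≫ (F pX pG U f hf).left :=
    IsOpenImmersion.lift_fac _ _ _
  let V : (Spec O).Opens := (pullback pX pX).fromSpecStalk x₂ ⁻¹ᵁ UΩ
  let j : (V : Scheme.{u}) ⟶ (UΩ : Scheme.{u}) :=
    ((pullback pX pX).fromSpecStalk x₂).resLE UΩ V le_rfl
  have hV : ∀ y : PrimeSpectrum B, y.asIdeal.height ≤ 1 →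
      Spec.map ((pullback.diagonal pX).stalkMap x) y ∈ V := by
    intro y hy
    change (pullback pX pX).fromSpecStalk x₂ (Spec.map _ y) ∈ UΩ
    rw [← Scheme.Hom.comp_apply, Scheme.SpecMap_stalkMap_fromSpecStalk, Scheme.Hom.comp_apply]
    have hyU : X.fromSpecStalk x y ∈ U := by
      by_contra hn
      have h2 := hcodim _ hn
      rw [Groth.Agent.H26.Purity.ringKrullDim_stalk_fromSpecStalk] at h2
      exact absurd ((WithBot.coe_le_coe.mp h2).trans hy) (by decide)
    refine ⟨⟨_, diag_mem pX U hyU⟩, ?_, rfl⟩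
    change (F pX pG U f hf).left ⟨_, diag_mem pX U hyU⟩ ∈ Ω
    rw [F_diag pX pG U f hf hyU]
    have hsp : X.fromSpecStalk x y ⤳ x := by
      have : X.fromSpecStalk x y ∈ Set.range (X.fromSpecStalk x) := ⟨y, rfl⟩
      rwa [Scheme.range_fromSpecStalk] at this
    exact ((hsp.map pX.continuous).map (η[Over.mk pG]).left.continuous).mem_open Ω.isOpen hxΩ
  obtain ⟨g, hg⟩ := Groth.Agent.Lib.WeilExt.Algebra.exists_extension
    ((pullback.diagonal pX).stalkMap x) V (j ≫ FΩ) hV
  have hVne : Nonempty (V : Scheme.{u}) :=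
    ⟨⟨_, hV ⟨⊥, Ideal.isPrime_bot⟩ (by
      change Ideal.height (⊥ : Ideal B) ≤ 1
      simp)⟩⟩
  have : IsDominant V.ι := ⟨by
    rw [DenseRange, Scheme.Opens.range_ι]
    exact V.isOpen.dense ⟨_, hVne.some.2⟩⟩
  have hjι : j ≫ (Scheme.Opens.ι UΩ) = V.ι ≫ (pullback pX pX).fromSpecStalk x₂ := Scheme.Hom.resLE_comp_ι _ _
  have hgV : V.ι ≫ g ≫ (Scheme.Opens.ι Ω) = j ≫ (pullback pX pX).homOfLE hUΩ ≫ (F pX pG U f hf).left := by
    rw [← Category.assoc, hg, Category.assoc, hFΩ]
  have hFw : (F pX pG U f hf).left ≫ pG = (U2 pX U).ι ≫ q pX := Over.w (F pX pG U f hf)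
  have hgS : (g ≫ (Scheme.Opens.ι Ω)) ≫ pG = (pullback pX pX).fromSpecStalk x₂ ≫ q pX := by
    refine ext_of_isDominant V.ι ?_
    rw [← Category.assoc, hgV, Category.assoc, Category.assoc, hFw, Scheme.homOfLE_ι_assoc,
      reassoc_of% hjι]
  obtain ⟨W₀, hxW₀, gW₀, hgW₀, hgW₀S⟩ := spread_out_of_isGermInjective' (q pX) pG (g ≫ (Scheme.Opens.ι Ω)) hgS
  obtain ⟨W₁, hxW₁, hW₁⟩ :=
    Groth.Agent.Lib.FinCond.exists_integral_nhd (pullback pX pX) x₂
  let W := W₀ ⊓ W₁
  have hxW : x₂ ∈ W := ⟨hxW₀, hxW₁⟩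
  have : IsIntegral (W₁ : Scheme.{u}) := hW₁
  refine ⟨W, Over.homMk ((pullback pX pX).homOfLE inf_le_left ≫ gW₀) (by
    change (_ ≫ gW₀) ≫ pG = _
    rw [Category.assoc, hgW₀S, Scheme.homOfLE_ι_assoc]; rfl), hxW, ?_⟩
  apply Over.OverMorphism.ext
  change (pullback pX pX).homOfLE inf_le_left ≫ (pullback pX pX).homOfLE inf_le_left ≫ gW₀ =
    (pullback pX pX).homOfLE inf_le_right ≫ (F pX pG U f hf).left
  let W' := W ⊓ U2 pX U
  let p₂ := (pullback pX pX).fromSpecStalk x₂
  have hle : ∀ z : (V : Scheme.{u}), p₂ (V.ι z) ∈ W' := fun z => by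
    have hsp : p₂ (V.ι z) ⤳ x₂ := by
      have : p₂ (V.ι z) ∈ Set.range p₂ := ⟨_, rfl⟩
      rwa [Scheme.range_fromSpecStalk] at this
    exact ⟨hsp.mem_open W.isOpen hxW, hUΩ z.2⟩
  let j' : (V : Scheme.{u}) ⟶ (W' : Scheme.{u}) := p₂.resLE W' V fun z hz => hle ⟨z, hz⟩
  have hW'ne : Nonempty (W' : Scheme.{u}) := ⟨j' hVne.some⟩
  have : IsIntegral (W' : Scheme.{u}) :=
    isIntegral_of_isOpenImmersion ((pullback pX pX).homOfLE
      (inf_le_left.trans inf_le_right : W' ≤ W₁))
  have : IsDominant j' := by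
    refine ⟨?_⟩
    let ξ := genericPoint (W' : Scheme.{u})
    have hmem : ξ ∈ Set.range j' := by
      let u : (W₁ : Scheme.{u}) := (pullback pX pX).homOfLE
        (inf_le_left.trans inf_le_right : W' ≤ W₁) ξ
      have hgen : u = genericPoint (W₁ : Scheme.{u}) :=
        genericPoint_eq_of_isOpenImmersion _
      have hsp : W'.ι ξ ⤳ x₂ := by
        have h1 : u ⤳ (⟨x₂, hxW₁⟩ : (W₁ : Scheme.{u})) :=
          hgen ▸ (genericPoint_spec _).specializes trivial
        have h2 := h1.map W₁.ι.continuous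
        have e : W₁.ι u = W'.ι ξ := by
          rw [← Scheme.Hom.comp_apply, Scheme.homOfLE_ι]
        rw [e] at h2
        exact h2
      obtain ⟨p, hp⟩ : W'.ι ξ ∈ Set.range p₂ := by rw [Scheme.range_fromSpecStalk]; exact hsp
      have hpV : p ∈ V := by
        obtain ⟨v⟩ := hVne
        have hpv : p ⤳ V.ι v := by
          apply (((pullback pX pX).fromSpecStalk x₂).isEmbedding.toIsInducing.specializes_iff).mp
          rw [hp]
          exact ((genericPoint_spec (W' : Scheme.{u})).specializes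
            (y := j' v) trivial).map W'.ι.continuous |>.trans (specializes_of_eq (by
              rw [← Scheme.Hom.comp_apply, Scheme.Hom.resLE_comp_ι]; rfl))
        exact hpv.mem_open V.isOpen v.2
      refine ⟨⟨p, hpV⟩, W'.ι.isOpenEmbedding.injective ?_⟩
      rw [← hp, ← Scheme.Hom.comp_apply, Scheme.Hom.resLE_comp_ι]
      rfl
    intro z
    exact closure_mono (Set.singleton_subset_iff.mpr hmem)
      (((genericPoint_spec (W' : Scheme.{u})).specializes trivial : ξ ⤳ z).mem_closure)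
  refine ext_of_isDominant_of_isSeparated pG ?_ j' ?_
  · rw [Category.assoc, Category.assoc, hgW₀S, Category.assoc, hFw]
    simp
  · have e1 : j' ≫ (pullback pX pX).homOfLE (inf_le_left.trans inf_le_left : W' ≤ W₀) =
        V.ι ≫ W₀.fromSpecStalkOfMem x₂ hxW₀ := by
      rw [← cancel_mono W₀.ι, Category.assoc, Category.assoc, Scheme.homOfLE_ι,
        Scheme.Opens.fromSpecStalkOfMem_ι, Scheme.Hom.resLE_comp_ι]
    have e2 : j' ≫ (pullback pX pX).homOfLE (inf_le_right : W' ≤ U2 pX U) =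
        j ≫ (pullback pX pX).homOfLE hUΩ := by
      rw [← cancel_mono (U2 pX U).ι, Category.assoc, Category.assoc, Scheme.homOfLE_ι,
        Scheme.homOfLE_ι, Scheme.Hom.resLE_comp_ι, hjι]
    calc _ = (j' ≫ (pullback pX pX).homOfLE (inf_le_left.trans inf_le_left : W' ≤ W₀)) ≫ gW₀ := by
          simp only [Category.assoc, Scheme.homOfLE_homOfLE_assoc]
      _ = V.ι ≫ g ≫ (Scheme.Opens.ι Ω) := by rw [e1, Category.assoc, ← hgW₀]
      _ = _ := by rw [hgV, ← Category.assoc, ← e2, Category.assoc]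

end Groth.Agent.Lib.WeilExt.Basic
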