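import Groth.Agent.Lib.WeilExt.Generic
import Groth.Agent.Lib.FinCond.Components
import Groth.Agent.S4991
import Mathlib.AlgebraicGeometry.SpreadingOut

/-!
# Morphisms from local schemes

* `exists_of_local`: morphisms on all local schemes compatible at the generic points glue.
* `lftProperty_of_closedPoints`: local-to-global for the Néron mapping property over a regular
  one-dimensional base.
-/

universe u

open CategoryTheory CategoryTheory.Limits AlgebraicGeometry TopologicalSpace

namespace Groth.Agent.Lib.WeilExt.Local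

open Groth.Agent.Lib.WeilExt.Generic

variable {S X G : Scheme.{u}}

theorem isRegularLocalRing_stalk [IsLocallyNoetherian S]
    (hreg : ∀ s : S, IsRegularLocalRing (S.presheaf.stalk s)) (p : X ⟶ S) [Smooth p] (x : X) :
    IsRegularLocalRing (X.presheaf.stalk x) :=
  (Groth.Agent.S4991.result p x ⟨⊤, trivial, inferInstance⟩).mpr (hreg _)

theorem isDomain_stalk [IsLocallyNoetherian S]
    (hreg : ∀ s : S, IsRegularLocalRing (S.presheaf.stalk s)) (p : X ⟶ S) [Smooth p] (x : X) :
    IsDomain (X.presheaf.stalk x) :=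
  haveI := isRegularLocalRing_stalk hreg p x
  Groth.Agent.Lib.Regular.Quotient.isDomain _

theorem isReduced_of_domain [∀ x : X, IsDomain (X.presheaf.stalk x)] : IsReduced X :=
  haveI : ∀ x : X, _root_.IsReduced (X.presheaf.stalk x) := fun _ => inferInstance
  isReduced_of_isReduced_stalk X

theorem eq_of_fromSpecStalk [IsReduced X] (pG : G ⟶ S) [IsSeparated pG] (a b : X ⟶ G)
    (hab : a ≫ pG = b ≫ pG)
    (h : ∀ ξ : X, IsMinimalPt ξ → X.fromSpecStalk ξ ≫ a = X.fromSpecStalk ξ ≫ b) : a = b := by
  refine eq_of_minimal pG a b hab (κ := {ξ : X // IsMinimalPt ξ})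
    (fun i => Spec (X.presheaf.stalk i.1)) (fun i => X.fromSpecStalk i.1) ?_ fun i => h i.1 i.2
  refine Dense.mono (fun ξ hξ => ?_) (dense_isMinimalPt X)
  exact Set.mem_iUnion.mpr ⟨⟨ξ, hξ⟩, IsLocalRing.closedPoint _, Scheme.fromSpecStalk_closedPoint⟩

theorem stalkSpecializes_fromSpecStalkOfMem (U : X.Opens) {ξ x : X} (h : ξ ⤳ x) (hξ : ξ ∈ U)
    (hx : x ∈ U) :
    Spec.map (X.presheaf.stalkSpecializes h) ≫ U.fromSpecStalkOfMem x hx =
      U.fromSpecStalkOfMem ξ hξ := by
  rw [← cancel_mono U.ι, Category.assoc, Scheme.Opens.fromSpecStalkOfMem_ι,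
    Scheme.Opens.fromSpecStalkOfMem_ι, Scheme.SpecMap_stalkSpecializes_fromSpecStalk]

/-- Morphisms on the spectra of all local rings which agree at the generic points glue. -/
theorem exists_of_local [IsLocallyNoetherian X] [∀ x : X, IsDomain (X.presheaf.stalk x)]
    (pX : X ⟶ S) (pG : G ⟶ S) [IsSeparated pG] [LocallyOfFiniteType pG]
    (φ : ∀ x : X, Spec (X.presheaf.stalk x) ⟶ G) (hφ : ∀ x, φ x ≫ pG = X.fromSpecStalk x ≫ pX)
    (hcompat : ∀ (ξ x : X) (h : ξ ⤳ x), IsMinimalPt ξ →
      Spec.map (X.presheaf.stalkSpecializes h) ≫ φ x = φ ξ) :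
    ∃ g : X ⟶ G, g ≫ pG = pX ∧ ∀ ξ, IsMinimalPt ξ → X.fromSpecStalk ξ ≫ g = φ ξ := by
  have := isReduced_of_domain (X := X)
  have hloc : ∀ x : X, ∃ (U : X.Opens) (g : (U : Scheme.{u}) ⟶ G), x ∈ U ∧ g ≫ pG = U.ι ≫ pX ∧
      ∀ (ξ : X) (hξ : ξ ∈ U), IsMinimalPt ξ → U.fromSpecStalkOfMem ξ hξ ≫ g = φ ξ := by
    intro x
    obtain ⟨U₀, hU₀, g₀, hg₀, hg₀S⟩ := spread_out_of_isGermInjective' pX pG (φ x) (hφ x)
    obtain ⟨W, hW, hWint⟩ := Groth.Agent.Lib.FinCond.exists_integral_nhd X x
    refine ⟨U₀ ⊓ W, X.homOfLE inf_le_left ≫ g₀, ⟨hU₀, hW⟩, ?_, fun ξ hξ hmin => ?_⟩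
    · rw [Category.assoc, hg₀S, Scheme.homOfLE_ι_assoc]
    · have hgen : W.ι (genericPoint (W : Scheme.{u})) = ξ := hmin _
        (((genericPoint_spec (W : Scheme.{u})).specializes
          (Set.mem_univ (⟨ξ, hξ.2⟩ : (W : Scheme.{u})))).map W.ι.continuous)
      have hsp : ξ ⤳ x := by
        have h := ((genericPoint_spec (W : Scheme.{u})).specializes
          (Set.mem_univ (⟨x, hW⟩ : (W : Scheme.{u})))).map W.ι.continuous
        rw [hgen] at h
        exact h
      have e : (U₀ ⊓ W).fromSpecStalkOfMem ξ hξ ≫ X.homOfLE inf_le_left =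
          U₀.fromSpecStalkOfMem ξ hξ.1 := by
        rw [← cancel_mono U₀.ι]
        simp
      rw [reassoc_of% e, ← stalkSpecializes_fromSpecStalkOfMem U₀ hsp hξ.1 hU₀, Category.assoc,
        ← hg₀, hcompat ξ x hsp hmin]
  choose U g hxU hgS hgξ using hloc
  obtain ⟨g', hg'⟩ := Groth.Agent.H26.SectionExtend.exists_glue U g fun i j => by
    let V := U i ⊓ U j
    have : IsReduced (V : Scheme.{u}) := isReduced_of_isOpenImmersion V.ι
    refine eq_of_fromSpecStalk pG _ _
      (by rw [Category.assoc, Category.assoc, hgS, hgS, Scheme.homOfLE_ι_assoc,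
        Scheme.homOfLE_ι_assoc]) fun ξ hξ => ?_
    have hmin : IsMinimalPt ξ.1 := fun z hz => by
      have := hξ ⟨z, hz.mem_open V.isOpen ξ.2⟩
        (V.ι.isEmbedding.isInducing.specializes_iff.mp hz)
      exact congrArg Subtype.val this
    have main : ∀ k (hle : V ≤ U k), Spec.map (inv (V.ι.stalkMap ξ)) ≫ (V : Scheme.{u}).fromSpecStalk ξ ≫
        X.homOfLE hle ≫ g k = φ ξ.1 := by
      intro k hle
      have e : Spec.map (inv (V.ι.stalkMap ξ)) ≫ (V : Scheme.{u}).fromSpecStalk ξ ≫ X.homOfLE hle =
          (U k).fromSpecStalkOfMem ξ.1 (hle ξ.2) := by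
        rw [← cancel_mono (U k).ι]
        simp
        exact (Scheme.SpecMap_stalkMap_fromSpecStalk V.ι).symm
      rw [reassoc_of% e]
      exact hgξ k ξ.1 (hle ξ.2) hmin
    rw [← cancel_epi (Spec.map (inv (V.ι.stalkMap ξ))), main i inf_le_left, main j inf_le_right]
  have htop : (⨆ i, U i : X.Opens) = ⊤ :=
    top_le_iff.mp fun x _ => Opens.mem_iSup.mpr ⟨x, hxU x⟩
  let g₀ : X ⟶ G := X.topIso.inv ≫ X.homOfLE htop.ge ≫ g'
  have hres : ∀ i, (U i).ι ≫ g₀ = g i := fun i => by
    have e : (U i).ι ≫ X.topIso.inv ≫ X.homOfLE htop.ge = X.homOfLE (le_iSup U i) := by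
      rw [← cancel_mono (⨆ i, U i : X.Opens).ι]
      simp
    rw [← hg' i, ← e]
    simp [g₀]
  refine ⟨g₀, (X.openCoverOfIsOpenCover U htop).hom_ext _ _ fun i => ?_, fun ξ hmin => ?_⟩
  · change (U i).ι ≫ g₀ ≫ pG = (U i).ι ≫ pX
    rw [← Category.assoc, hres, hgS]
  · rw [← Scheme.Opens.fromSpecStalkOfMem_ι (U ξ) ξ (hxU ξ), Category.assoc, hres,
      hgξ ξ ξ (hxU ξ) hmin]

/-- Local schemes of `X` are points of the base change to the local scheme of the base. -/
theorem exists_stalk_lift (pX : X ⟶ S) (x : X) (s : S) (hs : pX x = s) :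
    ∃ l : Spec (X.presheaf.stalk x) ⟶ pullback pX (S.fromSpecStalk s),
      l ≫ pullback.fst pX (S.fromSpecStalk s) = X.fromSpecStalk x := by
  subst hs
  exact ⟨pullback.lift (X.fromSpecStalk x) (Spec.map (pX.stalkMap x))
    (Scheme.SpecMap_stalkMap_fromSpecStalk pX).symm, pullback.lift_fst _ _ _⟩

theorem apply_minimal [IsIntegral S] (pX : X ⟶ S) [Flat pX] {ξ : X} (hξ : IsMinimalPt ξ) :
    pX ξ = genericPoint S := by
  obtain ⟨z, hz, hze⟩ := Flat.generalizingMap pX
    ((genericPoint_spec S).specializes (Set.mem_univ (pX ξ)))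
  rw [hξ z hz] at hze
  exact hze

/-- Local-to-global for the Néron mapping property. -/
theorem lftProperty_of_closedPoints [IsIntegral S] [IsNoetherian S]
    (hreg : ∀ s : S, IsRegularLocalRing (S.presheaf.stalk s)) (hdim : topologicalKrullDim S = 1)
    (G : Over S) [Smooth G.hom] [IsSeparated G.hom]
    (hloc : ∀ p : S, IsClosed ({p} : Set S) →
      ∀ Y : Over (Spec (S.presheaf.stalk p)), Smooth Y.hom →
        Function.Bijective (fun g : Y ⟶ (Over.pullback (S.fromSpecStalk p)).obj G =>
          (Over.pullback (Spec.map (S.presheaf.stalkSpecializes (genericPoint_specializes p)))).map g))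
    (Y : Over S) [Smooth Y.hom] :
    Function.Bijective
      (fun g : Y ⟶ G => (Over.pullback (S.fromSpecStalk (genericPoint S))).map g) := by
  set η := genericPoint S
  have hdom : ∀ y : Y.left, IsDomain (Y.left.presheaf.stalk y) := isDomain_stalk hreg Y.hom
  have : IsReduced Y.left := isReduced_of_domain
  have : IsLocallyNoetherian Y.left := LocallyOfFiniteType.isLocallyNoetherian Y.hom
  have hclosed : ∀ s : S, s ≠ η → IsClosed ({s} : Set S) := fun s hs => by
    rw [← closure_subset_iff_isClosed]
    intro t ht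
    by_contra hts
    let c : IrreducibleCloseds S → IrreducibleCloseds S := id
    let A : IrreducibleCloseds S := ⟨closure {t}, isIrreducible_singleton.closure, isClosed_closure⟩
    let B : IrreducibleCloseds S := ⟨closure {s}, isIrreducible_singleton.closure, isClosed_closure⟩
    let C : IrreducibleCloseds S := ⟨closure {η}, isIrreducible_singleton.closure, isClosed_closure⟩
    have hAB : A < B := by
      refine lt_of_le_of_ne (closure_minimal (Set.singleton_subset_iff.mpr ht) isClosed_closure) ?_
      intro h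
      have h' : closure {t} = closure {s} := congrArg (fun Z : IrreducibleCloseds S => (Z : Set S)) h
      exact hts ((Set.mem_singleton_iff).mpr
        ((inseparable_iff_closure_eq.mpr h').eq))
    have hBC : B < C := by
      refine lt_of_le_of_ne (closure_minimal (Set.singleton_subset_iff.mpr
        ((genericPoint_spec S).specializes (Set.mem_univ s)).mem_closure) isClosed_closure) ?_
      intro h
      have h' : closure {s} = closure {η} := congrArg (fun Z : IrreducibleCloseds S => (Z : Set S)) h
      exact hs ((inseparable_iff_closure_eq.mpr h').eq)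
    let l : LTSeries (IrreducibleCloseds S) :=
      ((RelSeries.singleton _ A).snoc B hAB).snoc C (by simpa using hBC)
    have h2 : ((2 : ℕ) : WithBot ℕ∞) ≤ topologicalKrullDim S := Order.LTSeries.length_le_krullDim l
    rw [hdim] at h2
    exact absurd h2 (by decide)
  -- the generic fibre determines a morphism
  have hdense : Dense {ξ : Y.left | IsMinimalPt ξ} := dense_isMinimalPt _
  refine ⟨fun a b hab => ?_, fun k => ?_⟩
  · apply Over.OverMorphism.ext
    refine eq_of_fromSpecStalk G.hom a.left b.left ((Over.w a).trans (Over.w b).symm) fun ξ hξ => ?_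
    obtain ⟨l, hl⟩ := exists_stalk_lift Y.hom ξ η (apply_minimal Y.hom hξ)
    have h := congrArg (fun m => l ≫ CommaMorphism.left m ≫ pullback.fst G.hom _) hab
    simp only [Over.pullback_map_left, pullback.lift_fst] at h
    rw [← hl, Category.assoc, Category.assoc]
    exact h
  -- local data
  have hkw : (k.left ≫ pullback.fst G.hom (S.fromSpecStalk η)) ≫ G.hom =
      pullback.fst Y.hom (S.fromSpecStalk η) ≫ Y.hom := by
    rw [Category.assoc, pullback.condition, ← Category.assoc]
    exact (congrArg (· ≫ S.fromSpecStalk η) (Over.w k)).trans pullback.condition.symm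
  have hφ : ∀ y : Y.left, ∃ φ : Spec (Y.left.presheaf.stalk y) ⟶ G.left,
      φ ≫ G.hom = Y.left.fromSpecStalk y ≫ Y.hom ∧
      ∀ (ξ : Y.left) (hsp : ξ ⤳ y) (l : Spec (Y.left.presheaf.stalk ξ) ⟶
        pullback Y.hom (S.fromSpecStalk η)), IsMinimalPt ξ →
        l ≫ pullback.fst Y.hom (S.fromSpecStalk η) = Y.left.fromSpecStalk ξ →
        Spec.map (Y.left.presheaf.stalkSpecializes hsp) ≫ φ =
          l ≫ k.left ≫ pullback.fst G.hom (S.fromSpecStalk η) := by
    intro y
    by_cases hy : Y.hom y = η
    · obtain ⟨ly, hly⟩ := exists_stalk_lift Y.hom y η hy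
      refine ⟨ly ≫ k.left ≫ pullback.fst G.hom _, ?_, fun ξ hsp l _ hl => ?_⟩
      · simp only [Category.assoc] at hkw ⊢
        rw [hkw, reassoc_of% hly]
      · rw [← Category.assoc]
        congr 1
        rw [← cancel_mono (pullback.fst Y.hom (S.fromSpecStalk η)), Category.assoc, hly, hl,
          Scheme.SpecMap_stalkSpecializes_fromSpecStalk]
    · set p := Y.hom y with hp
      let t := Spec.map (S.presheaf.stalkSpecializes (genericPoint_specializes p))
      have ht : t ≫ S.fromSpecStalk p = S.fromSpecStalk η :=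
        Scheme.SpecMap_stalkSpecializes_fromSpecStalk _
      let Yp := (Over.pullback (S.fromSpecStalk p)).obj Y
      have hYp : Smooth Yp.hom := MorphismProperty.pullback_snd Y.hom _ ‹_›
      let a : pullback (pullback.snd Y.hom (S.fromSpecStalk p)) t ⟶
          pullback Y.hom (S.fromSpecStalk η) :=
        pullback.lift (pullback.fst _ _ ≫ pullback.fst _ _) (pullback.snd _ _) (by
          rw [Category.assoc, pullback.condition, pullback.condition_assoc, ht])
      let kp : (Over.pullback t).obj Yp ⟶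
          (Over.pullback t).obj ((Over.pullback (S.fromSpecStalk p)).obj G) :=
        Over.homMk (pullback.lift (pullback.lift (a ≫ k.left ≫ pullback.fst _ _)
          (pullback.snd _ _ ≫ t) (by
            simp only [Category.assoc] at hkw ⊢
            rw [hkw, pullback.lift_fst_assoc, Category.assoc, pullback.condition,
              pullback.condition_assoc]
            rfl))
          (pullback.snd _ _) (by exact pullback.lift_snd _ _ _)) (pullback.lift_snd _ _ _)
      obtain ⟨gp, hgp⟩ := (hloc p (hclosed p hy) Yp hYp).2 kp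
      obtain ⟨ly, hly⟩ := exists_stalk_lift Y.hom y p rfl
      refine ⟨ly ≫ gp.left ≫ pullback.fst G.hom _, ?_, fun ξ hsp l _ hl => ?_⟩
      · have hgw : gp.left ≫ pullback.snd G.hom _ = pullback.snd Y.hom (S.fromSpecStalk p) :=
          Over.w gp
        rw [Category.assoc, Category.assoc, pullback.condition, reassoc_of% hgw, ← pullback.condition,
          reassoc_of% hly]
      · let c : Spec (Y.left.presheaf.stalk ξ) ⟶
            pullback (pullback.snd Y.hom (S.fromSpecStalk p)) t :=
          pullback.lift (Spec.map (Y.left.presheaf.stalkSpecializes hsp) ≫ ly)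
            (l ≫ pullback.snd _ _) (by
            rw [← cancel_mono (S.fromSpecStalk p)]
            simp only [Category.assoc, ht, ← pullback.condition]
            rw [reassoc_of% hly, reassoc_of% hl,
              Scheme.SpecMap_stalkSpecializes_fromSpecStalk_assoc])
        have hca : c ≫ a = l := by
          apply pullback.hom_ext
          · rw [Category.assoc, pullback.lift_fst, pullback.lift_fst_assoc, Category.assoc, hly, hl,
              Scheme.SpecMap_stalkSpecializes_fromSpecStalk]
          · rw [Category.assoc, pullback.lift_snd, pullback.lift_snd]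
        have h : c ≫ ((Over.pullback t).map gp).left ≫ pullback.fst _ t ≫ pullback.fst G.hom _ =
            c ≫ kp.left ≫ pullback.fst _ t ≫ pullback.fst G.hom _ :=
          congrArg (fun m => c ≫ CommaMorphism.left m ≫ pullback.fst _ t ≫ pullback.fst G.hom _) hgp
        simp only [Over.pullback_map_left, pullback.lift_fst_assoc, Category.assoc, kp,
          Over.homMk_left, pullback.lift_fst] at h
        rw [reassoc_of% hca] at h
        rw [← h]
        simp only [c]
        erw [pullback.lift_fst_assoc]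
        simp only [Category.assoc]
  choose φ hφS hφc using hφ
  have hlift : ∀ ξ : Y.left, IsMinimalPt ξ → ∃ l : Spec (Y.left.presheaf.stalk ξ) ⟶
      pullback Y.hom (S.fromSpecStalk η),
      l ≫ pullback.fst Y.hom (S.fromSpecStalk η) = Y.left.fromSpecStalk ξ :=
    fun ξ hξ => exists_stalk_lift Y.hom ξ η (apply_minimal Y.hom hξ)
  obtain ⟨g, hg, hgξ⟩ := exists_of_local Y.hom G.hom φ hφS fun ξ x h hmin => by
    obtain ⟨l, hl⟩ := hlift ξ hmin
    have h2 := hφc ξ ξ (specializes_refl _) l hmin hl
    rw [TopCat.Presheaf.stalkSpecializes_refl, Spec.map_id, Category.id_comp] at h2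
    rw [hφc x ξ h l hmin hl, h2]
  refine ⟨Over.homMk g hg, ?_⟩
  have : Smooth (pullback.snd Y.hom (S.fromSpecStalk η)) := MorphismProperty.pullback_snd _ _ ‹_›
  have : IsPreimmersion (pullback.fst Y.hom (S.fromSpecStalk η)) :=
    MorphismProperty.pullback_fst _ _ inferInstance
  have : IsReduced (pullback Y.hom (S.fromSpecStalk η)) := by
    have : IsLocallyNoetherian (Spec (S.presheaf.stalk η)) := inferInstance
    have := isDomain_stalk (S := Spec (S.presheaf.stalk η)) (fun s => by
      have := hreg η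
      have := IsRegularLocalRing.of_ringEquiv (R := Localization.AtPrime (s : PrimeSpectrum _).asIdeal)
        (IsLocalization.algEquiv (s : PrimeSpectrum _).asIdeal.primeCompl
          (Localization.AtPrime (s : PrimeSpectrum _).asIdeal)
          ((Spec.structureSheaf (S.presheaf.stalk η)).presheaf.stalk s)).toRingEquiv
      exact this) (pullback.snd Y.hom (S.fromSpecStalk η))
    exact isReduced_of_domain
  apply Over.OverMorphism.ext
  apply pullback.hom_ext
  swap
  · exact (Over.w ((Over.pullback (S.fromSpecStalk η)).map (Over.homMk g hg))).trans (Over.w k).symm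
  change pullback.lift _ _ _ ≫ pullback.fst G.hom (S.fromSpecStalk η) = _
  rw [pullback.lift_fst]
  change pullback.fst Y.hom (S.fromSpecStalk η) ≫ g = _
  choose l hl using fun ξ : {ξ : Y.left // IsMinimalPt ξ} => hlift ξ.1 ξ.2
  have hd : Dense (⋃ ξ, Set.range (l ξ)) := fun z => by
    obtain ⟨ξ, hξ, hmin⟩ := exists_isMinimalPt (pullback.fst Y.hom (S.fromSpecStalk η) z)
    let v := l ⟨ξ, hmin⟩ (IsLocalRing.closedPoint _)
    have hv : pullback.fst Y.hom (S.fromSpecStalk η) v = ξ := by
      rw [← Scheme.Hom.comp_apply, hl]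
      exact Scheme.fromSpecStalk_closedPoint
    have hs : v ⤳ z :=
      (pullback.fst Y.hom (S.fromSpecStalk η)).isEmbedding.isInducing.specializes_iff.mp
        (hv.symm ▸ hξ)
    exact closure_mono (Set.singleton_subset_iff.mpr
      (show v ∈ ⋃ ξ, Set.range (l ξ) from
        Set.mem_iUnion.mpr ⟨⟨ξ, hmin⟩, _, rfl⟩)) hs.mem_closure
  refine eq_of_minimal G.hom _ _ ?_ _ l hd fun ξ => ?_
  · rw [Category.assoc, hg]
    exact hkw.symm
  · rw [reassoc_of% hl ξ, hgξ ξ.1 ξ.2]
    have h2 := hφc ξ.1 ξ.1 (specializes_refl _) (l ξ) ξ.2 (hl ξ)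
    rwa [TopCat.Presheaf.stalkSpecializes_refl, Spec.map_id, Category.id_comp] at h2

end Groth.Agent.Lib.WeilExt.Local
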