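import Groth.Agent.Lib.WeilExt.Basic
import Mathlib.AlgebraicGeometry.Fiber
import Mathlib.AlgebraicGeometry.Morphisms.UniversallyOpen

/-!
# Weil's extension theorem: descent from the product and gluing
-/

universe u

open CategoryTheory CategoryTheory.Limits MonoidalCategory CartesianMonoidalCategory MonObj
open AlgebraicGeometry TopologicalSpace

namespace Groth.Agent.Lib.WeilExt.Extend

open Groth.Agent.Lib.WeilExt.Basic

variable {R : Type u} [CommRing R] [IsDedekindDomain R]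
  {X G : Scheme.{u}} (pX : X ⟶ Spec (CommRingCat.of R)) (pG : G ⟶ Spec (CommRingCat.of R))
  [Smooth pX] [GrpObj (Over.mk pG)] [IsSeparated pG] [LocallyOfFiniteType pG]
  (U : X.Opens) (f : (U : Scheme.{u}) ⟶ G) (hf : f ≫ pG = U.ι ≫ pX)

omit [IsDedekindDomain R] in
theorem dense_of_fibrewise (hdense : ∀ x : X, x ∈ closure ((U : Set X) ∩ {y | pX.base y = pX.base x})) :
    Dense (U : Set X) := fun x => closure_mono Set.inter_subset_left (hdense x)

omit [IsDedekindDomain R] in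
/-- A neighbourhood of a diagonal point contains a point over the given one with second
projection in a fibrewise dense open. -/
theorem exists_mem_fibre (hdense : ∀ x : X, x ∈ closure ((U : Set X) ∩ {y | pX.base y = pX.base x}))
    (W : (pullback pX pX).Opens) {x : X} (hx : pullback.diagonal pX x ∈ W) :
    ∃ t : (pullback pX pX : Scheme.{u}),
      t ∈ W ∧ pullback.fst pX pX t = x ∧ pullback.snd pX pX t ∈ U := by
  let s := pX x
  let b := Spec.map (pX.residueFieldMap x)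
  let Z : Scheme.{u} := pullback b (pX.fiberToSpecResidueField s)
  let φ : Z ⟶ pullback pX pX :=
    pullback.lift (pullback.fst _ _ ≫ X.fromSpecResidueField x) (pullback.snd _ _ ≫ pX.fiberι s) (by
      rw [Category.assoc, Category.assoc, ← Scheme.Hom.SpecMap_residueFieldMap_fromSpecResidueField,
        Scheme.Hom.fiber_fac, pullback.condition_assoc])
  let π : Z ⟶ pX.fiber s := pullback.snd _ _
  have hπ : IsOpenMap π := Scheme.Hom.isOpenMap _
  have hfstφ : ∀ z : Z, pullback.fst pX pX (φ z) = x := fun z => by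
    rw [← Scheme.Hom.comp_apply, pullback.lift_fst, Scheme.Hom.comp_apply,
      Scheme.fromSpecResidueField_apply]
  have hsndφ : ∀ z : Z, pullback.snd pX pX (φ z) = pX.fiberι s (π z) := fun z => by
    rw [← Scheme.Hom.comp_apply, pullback.lift_snd, Scheme.Hom.comp_apply]
  -- a point of `Z` above the diagonal point
  let d : Spec (X.residueField x) ⟶ Z := pullback.lift (𝟙 _)
    (pullback.lift (X.fromSpecResidueField x) b (by
      rw [Scheme.Hom.SpecMap_residueFieldMap_fromSpecResidueField])) (by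
      rw [Category.id_comp, Scheme.Hom.fiberToSpecResidueField]
      exact (pullback.lift_snd _ _ _).symm)
  have hd : d ≫ φ = X.fromSpecResidueField x ≫ pullback.diagonal pX := by
    apply pullback.hom_ext
    · rw [Category.assoc, pullback.lift_fst, pullback.lift_fst_assoc, Category.id_comp,
        Category.assoc, pullback.diagonal_fst, Category.comp_id]
    · rw [Category.assoc, pullback.lift_snd, pullback.lift_snd_assoc, Category.assoc,
        pullback.diagonal_snd, Category.comp_id]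
      exact pullback.lift_fst _ _ _
  let z₀ : Z := d (IsLocalRing.closedPoint _)
  have hz₀ : φ z₀ = pullback.diagonal pX x := by
    rw [← Scheme.Hom.comp_apply, hd, Scheme.Hom.comp_apply, Scheme.fromSpecResidueField_apply]
  let O : Set (pX.fiber s) := π '' ((φ ⁻¹ᵁ W : Z.Opens) : Set Z)
  have hO : IsOpen O := hπ _ (φ ⁻¹ᵁ W).isOpen
  obtain ⟨N, hN, hNO⟩ := (pX.fiberι s).isEmbedding.isInducing.isOpen_iff.mp hO
  have hxN : x ∈ N := by
    have hz : π z₀ ∈ O := ⟨z₀, show φ z₀ ∈ W from hz₀ ▸ hx, rfl⟩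
    rw [← hNO] at hz
    have e : pX.fiberι s (π z₀) = x := by
      rw [← hsndφ, hz₀, ← Scheme.Hom.comp_apply, pullback.diagonal_snd]; rfl
    exact e ▸ hz
  obtain ⟨y, hyN, hyU, hys⟩ := mem_closure_iff.mp (hdense x) N hN hxN
  obtain ⟨w, rfl⟩ : y ∈ Set.range (pX.fiberι s) := by
    rw [Scheme.Hom.range_fiberι]; exact hys
  have hw : w ∈ O := by rw [← hNO]; exact hyN
  obtain ⟨z, hz, rfl⟩ := hw
  exact ⟨φ z, hz, hfstφ z, by rw [hsndφ]; exact hyU⟩

/-- Extension near a point. -/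
theorem exists_local (hdense : ∀ x : X, x ∈ closure ((U : Set X) ∩ {y | pX.base y = pX.base x}))
    (hcodim : ∀ x : X, x ∉ U → (2 : WithBot ℕ∞) ≤ ringKrullDim (X.presheaf.stalk x))
    (hf : f ≫ pG = U.ι ≫ pX) (x : X) :
    ∃ (X₀ : X.Opens) (g : (X₀ : Scheme.{u}) ⟶ G), x ∈ X₀ ∧ g ≫ pG = X₀.ι ≫ pX ∧
      X.homOfLE (inf_le_left : X₀ ⊓ U ≤ X₀) ≫ g = X.homOfLE (inf_le_right : X₀ ⊓ U ≤ U) ≫ f := by
  obtain ⟨W, gW, hxW, hW⟩ := exists_extension_diag pX pG U f hf hcodim x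
  let T : (pullback pX pX).Opens := W ⊓ pullback.snd pX pX ⁻¹ᵁ U
  let gT : ov (q pX) T ⟶ Over.mk pG :=
    (incl (q pX) (inf_le_left : T ≤ W) ≫ gW) * bf pX pG U f hf T inf_le_right
  let W' := W ⊓ U2 pX U
  have hW'T : W' ≤ T := fun z hz => ⟨hz.1, hz.2.2⟩
  have key : incl (q pX) hW'T ≫ gT =
      incl (q pX) (inf_le_right : W' ≤ U2 pX U) ≫ af pX pG U f hf := by
    have e1 : incl (q pX) hW'T ≫ incl (q pX) (inf_le_left : T ≤ W) =
        incl (q pX) (inf_le_left : W' ≤ W) := Over.OverMorphism.ext ((pullback pX pX).homOfLE_homOfLE hW'T (inf_le_left : T ≤ W))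
    rw [MonObj.comp_mul, ← Category.assoc, e1, hW, incl_bf,
      ← incl_bf pX pG U f hf (inf_le_right : W' ≤ U2 pX U) inf_le_right, ← MonObj.comp_mul, F,
      inv_mul_cancel_right]
  have key' : (pullback pX pX).homOfLE hW'T ≫ gT.left =
      (pullback pX pX).homOfLE (inf_le_right : W' ≤ U2 pX U) ≫
        (pullback.fst pX pX).resLE U (U2 pX U) inf_le_left ≫ f := congr(($key).left)
  let p : (T : Scheme.{u}) ⟶ X := T.ι ≫ pullback.fst pX pX
  have hopen : IsOpenMap p := Scheme.Hom.isOpenMap _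
  let X₀ : X.Opens := ⟨Set.range p, hopen.isOpen_range⟩
  let pr : (T : Scheme.{u}) ⟶ (X₀ : Scheme.{u}) :=
    IsOpenImmersion.lift X₀.ι p (by rw [Scheme.Opens.range_ι]; rfl)
  have hpr : pr ≫ X₀.ι = p := IsOpenImmersion.lift_fac _ _ _
  have hsmp : Smooth (pr ≫ X₀.ι) := by rw [hpr]; infer_instance
  have hsm : Smooth pr :=
    MorphismProperty.of_postcomp @Smooth (W' := @IsOpenImmersion) pr X₀.ι inferInstance hsmp
  have hsurj : Surjective pr := ⟨fun y => by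
    obtain ⟨t, ht⟩ := (show X₀.ι y ∈ Set.range p from y.2)
    refine ⟨t, X₀.ι.isOpenEmbedding.injective ?_⟩
    rw [← Scheme.Hom.comp_apply, hpr, ht]⟩
  obtain ⟨t₀, ht₀W, ht₀x, ht₀U⟩ := exists_mem_fibre pX U hdense W hxW
  have hxX₀ : x ∈ X₀ := ⟨⟨t₀, ht₀W, ht₀U⟩, by
    rw [Scheme.Hom.comp_apply]; exact ht₀x⟩
  have hpq : pr ≫ X₀.ι ≫ pX = T.ι ≫ q pX := by
    rw [reassoc_of% hpr]
    simp [p]
  have hgTw : gT.left ≫ pG = T.ι ≫ q pX := Over.w gT
  have hdesc : ∀ {Z : Scheme.{u}} (g₁ g₂ : Z ⟶ (T : Scheme.{u})),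
      g₁ ≫ pr = g₂ ≫ pr → g₁ ≫ gT.left = g₂ ≫ gT.left := by
    intro Z g₁ g₂ h12
    let Q := pullback pr pr
    let k : Q ⟶ X := pullback.fst pr pr ≫ pr ≫ X₀.ι
    have : Smooth k := inferInstanceAs (Smooth (pullback.fst pr pr ≫ pr ≫ X₀.ι))
    have : IsReduced Q := isReduced_of_smooth (k ≫ pX)
    suffices hQ : pullback.fst pr pr ≫ gT.left = pullback.snd pr pr ≫ gT.left by
      rw [← pullback.lift_fst g₁ g₂ h12, Category.assoc, hQ, pullback.lift_snd_assoc]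
    refine eq_of_dense pG _ _ ?_ (k ⁻¹ᵁ U)
      ((dense_of_fibrewise pX U hdense).preimage (f := k) (Scheme.Hom.isOpenMap k)) ?_
    · simp only [Category.assoc, hgTw, ← hpq]
      exact pullback.condition_assoc _
    · let c : (k ⁻¹ᵁ U : Q.Opens).toScheme ⟶ (U : Scheme.{u}) := k.resLE U (k ⁻¹ᵁ U) le_rfl
      have main : ∀ a : Q ⟶ (T : Scheme.{u}), a ≫ pr ≫ X₀.ι = k →
          (k ⁻¹ᵁ U).ι ≫ a ≫ gT.left = c ≫ f := by
        intro a ha
        have hle : k ⁻¹ᵁ U ≤ (a ≫ T.ι) ⁻¹ᵁ W' := fun z hz => by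
          have hT : (a ≫ T.ι) z ∈ T := by rw [Scheme.Hom.comp_apply]; exact (a z).2
          refine ⟨hT.1, ?_, hT.2⟩
          change pullback.fst pX pX ((a ≫ T.ι) z) ∈ U
          rw [← Scheme.Hom.comp_apply, Category.assoc, show T.ι ≫ pullback.fst pX pX = p from rfl,
            ← hpr, ha]
          exact hz
        let l : (k ⁻¹ᵁ U : Q.Opens).toScheme ⟶ (W' : Scheme.{u}) := (a ≫ T.ι).resLE W' _ hle
        have hl : l ≫ (pullback pX pX).homOfLE hW'T = (k ⁻¹ᵁ U).ι ≫ a := by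
          rw [← cancel_mono T.ι, Category.assoc, Scheme.homOfLE_ι, Scheme.Hom.resLE_comp_ι,
            Category.assoc]
        have hl2 : l ≫ (pullback pX pX).homOfLE (inf_le_right : W' ≤ U2 pX U) ≫
            (pullback.fst pX pX).resLE U (U2 pX U) inf_le_left = c := by
          rw [← cancel_mono U.ι, Category.assoc, Category.assoc, Scheme.Hom.resLE_comp_ι,
            Scheme.homOfLE_ι_assoc, Scheme.Hom.resLE_comp_ι_assoc, Scheme.Hom.resLE_comp_ι,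
            Category.assoc, show T.ι ≫ pullback.fst pX pX = p from rfl, ← hpr, ha]
        rw [← reassoc_of% hl, key', ← Category.assoc, ← Category.assoc, Category.assoc l, hl2]
      rw [main (pullback.fst pr pr) rfl, main (pullback.snd pr pr)
        ((pullback.condition_assoc _).symm)]
  let g₀ := EffectiveEpi.desc pr gT.left hdesc
  have hg₀ : pr ≫ g₀ = gT.left := EffectiveEpi.fac pr gT.left hdesc
  have hg₀w : g₀ ≫ pG = X₀.ι ≫ pX := by
    rw [← cancel_epi pr, ← Category.assoc, hg₀, hgTw, hpq]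
  refine ⟨X₀, g₀, hxX₀, hg₀w, ?_⟩
  let X₁ := X₀ ⊓ U
  have hle1 : p ⁻¹ᵁ X₁ ≤ T.ι ⁻¹ᵁ W' := fun z hz => by
    refine ⟨z.2.1, ?_, z.2.2⟩
    exact hz.2
  let a : (p ⁻¹ᵁ X₁ : T.toScheme.Opens).toScheme ⟶ (X₁ : Scheme.{u}) := p.resLE X₁ _ le_rfl
  have : Surjective a := ⟨fun y => by
    obtain ⟨t, ht⟩ := (show X₁.ι y ∈ Set.range p from y.2.1)
    have htm : t ∈ p ⁻¹ᵁ X₁ := by change p t ∈ X₁; rw [ht]; exact y.2
    refine ⟨⟨t, htm⟩, X₁.ι.isOpenEmbedding.injective ?_⟩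
    rw [← Scheme.Hom.comp_apply, Scheme.Hom.resLE_comp_ι, Scheme.Hom.comp_apply]
    exact ht⟩
  have : Smooth a := by
    have e : a = p ∣_ X₁ := Scheme.Hom.resLE_eq_morphismRestrict p (U := X₁)
    rw [e]; infer_instance
  rw [← cancel_epi a]
  have ha1 : a ≫ X.homOfLE (inf_le_left : X₁ ≤ X₀) = (p ⁻¹ᵁ X₁).ι ≫ pr := by
    rw [← cancel_mono X₀.ι, Category.assoc, Category.assoc, Scheme.homOfLE_ι,
      Scheme.Hom.resLE_comp_ι, hpr]
  let l : (p ⁻¹ᵁ X₁ : T.toScheme.Opens).toScheme ⟶ (W' : Scheme.{u}) := T.ι.resLE W' _ hle1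
  have hl : l ≫ (pullback pX pX).homOfLE hW'T = (p ⁻¹ᵁ X₁).ι := by
    rw [← cancel_mono T.ι, Category.assoc, Scheme.homOfLE_ι, Scheme.Hom.resLE_comp_ι]
  have hl2 : l ≫ (pullback pX pX).homOfLE (inf_le_right : W' ≤ U2 pX U) ≫
      (pullback.fst pX pX).resLE U (U2 pX U) inf_le_left =
      a ≫ X.homOfLE (inf_le_right : X₁ ≤ U) := by
    rw [← cancel_mono U.ι, Category.assoc, Category.assoc, Category.assoc, Scheme.homOfLE_ι,
      Scheme.Hom.resLE_comp_ι, Scheme.homOfLE_ι_assoc, Scheme.Hom.resLE_comp_ι_assoc,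
      Scheme.Hom.resLE_comp_ι]
  rw [reassoc_of% ha1, hg₀, ← reassoc_of% hl, key', ← Category.assoc, ← Category.assoc,
    Category.assoc l, hl2, Category.assoc]

/-- Weil's extension theorem. -/
theorem existsUnique_extension
    (hdense : ∀ x : X, x ∈ closure ((U : Set X) ∩ {y | pX.base y = pX.base x}))
    (hcodim : ∀ x : X, x ∉ U → (2 : WithBot ℕ∞) ≤ ringKrullDim (X.presheaf.stalk x))
    (hf : f ≫ pG = U.ι ≫ pX) :
    ∃! g : X ⟶ G, g ≫ pG = pX ∧ U.ι ≫ g = f := by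
  have : IsReduced X := isReduced_of_smooth pX
  have hU := dense_of_fibrewise pX U hdense
  choose X₀ g hx hgw hg using exists_local pX pG U f hdense hcodim hf
  have hglue : ∀ i j, X.homOfLE (inf_le_left : X₀ i ⊓ X₀ j ≤ X₀ i) ≫ g i =
      X.homOfLE (inf_le_right : X₀ i ⊓ X₀ j ≤ X₀ j) ≫ g j := by
    intro i j
    let V := X₀ i ⊓ X₀ j
    have hle : V.ι ⁻¹ᵁ U ≤ V.ι ⁻¹ᵁ (X₀ i ⊓ U) ⊓ V.ι ⁻¹ᵁ (X₀ j ⊓ U) := fun z hz =>
      ⟨⟨z.2.1, hz⟩, ⟨z.2.2, hz⟩⟩
    refine eq_of_dense pG _ _ ?_ (V.ι ⁻¹ᵁ U) (hU.preimage (f := V.ι) (Scheme.Hom.isOpenMap _)) ?_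
    · rw [Category.assoc, Category.assoc, hgw, hgw, Scheme.homOfLE_ι_assoc, Scheme.homOfLE_ι_assoc]
    · have main : ∀ (k : X) (hk : V ≤ X₀ k) (hk' : V.ι ⁻¹ᵁ U ≤ V.ι ⁻¹ᵁ (X₀ k ⊓ U)),
          (V.ι ⁻¹ᵁ U).ι ≫ X.homOfLE hk ≫ g k = V.ι.resLE U _ le_rfl ≫ f := by
        intro k hk hk'
        let l : (V.ι ⁻¹ᵁ U).toScheme ⟶ (X₀ k ⊓ U : X.Opens).toScheme :=
          V.ι.resLE (X₀ k ⊓ U) _ hk'
        have e1 : l ≫ X.homOfLE (inf_le_left : X₀ k ⊓ U ≤ X₀ k) =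
            (V.ι ⁻¹ᵁ U).ι ≫ X.homOfLE hk := by
          rw [← cancel_mono (X₀ k).ι, Category.assoc, Category.assoc, Scheme.homOfLE_ι,
            Scheme.homOfLE_ι, Scheme.Hom.resLE_comp_ι]
        have e2 : l ≫ X.homOfLE (inf_le_right : X₀ k ⊓ U ≤ U) = V.ι.resLE U _ le_rfl := by
          rw [← cancel_mono U.ι, Category.assoc, Scheme.homOfLE_ι, Scheme.Hom.resLE_comp_ι,
            Scheme.Hom.resLE_comp_ι]
        rw [← reassoc_of% e1, hg, reassoc_of% e2]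
      rw [main i inf_le_left (hle.trans inf_le_left), main j inf_le_right (hle.trans inf_le_right)]
  obtain ⟨g', hg'⟩ := Groth.Agent.H26.SectionExtend.exists_glue X₀ g hglue
  have htop : (⨆ i, X₀ i : X.Opens) = ⊤ :=
    top_le_iff.mp fun x _ => Opens.mem_iSup.mpr ⟨x, hx x⟩
  let g₀ : X ⟶ G := X.topIso.inv ≫ X.homOfLE htop.ge ≫ g'
  have hres : ∀ i, (X₀ i).ι ≫ g₀ = g i := fun i => by
    have e : (X₀ i).ι ≫ X.topIso.inv ≫ X.homOfLE htop.ge = X.homOfLE (le_iSup X₀ i) := by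
      rw [← cancel_mono (⨆ i, X₀ i : X.Opens).ι]
      simp
    rw [← hg' i, ← e]
    simp [g₀]
  have hext : ∀ {Y : Scheme.{u}} (a b : X ⟶ Y), (∀ i, (X₀ i).ι ≫ a = (X₀ i).ι ≫ b) → a = b :=
    fun a b h => (X.openCoverOfIsOpenCover X₀ htop).hom_ext a b h
  have hw : g₀ ≫ pG = pX := hext _ _ fun i => by rw [← Category.assoc, hres, hgw]
  have hU' : U.ι ≫ g₀ = f := by
    refine ((U : Scheme.{u}).openCoverOfIsOpenCover (fun i => U.ι ⁻¹ᵁ X₀ i) ?_).hom_ext _ _ fun i => ?_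
    · exact top_le_iff.mp fun z _ => Opens.mem_iSup.mpr ⟨z.1, hx z.1⟩
    · change (U.ι ⁻¹ᵁ X₀ i).ι ≫ U.ι ≫ g₀ = (U.ι ⁻¹ᵁ X₀ i).ι ≫ f
      let l : (U.ι ⁻¹ᵁ X₀ i).toScheme ⟶ (X₀ i ⊓ U : X.Opens).toScheme :=
        U.ι.resLE (X₀ i ⊓ U) _ fun z hz => ⟨hz, z.2⟩
      have e1 : l ≫ X.homOfLE (inf_le_left : X₀ i ⊓ U ≤ X₀ i) ≫ (X₀ i).ι =
          (U.ι ⁻¹ᵁ X₀ i).ι ≫ U.ι := by
        rw [Scheme.homOfLE_ι, Scheme.Hom.resLE_comp_ι]
      have e2 : l ≫ X.homOfLE (inf_le_right : X₀ i ⊓ U ≤ U) = (U.ι ⁻¹ᵁ X₀ i).ι := by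
        rw [← cancel_mono U.ι, Category.assoc, Scheme.homOfLE_ι, Scheme.Hom.resLE_comp_ι]
      rw [← reassoc_of% e1, hres, hg, reassoc_of% e2]
  refine ⟨g₀, ⟨hw, hU'⟩, fun g₁ ⟨h1, h2⟩ => ?_⟩
  exact eq_of_dense pG g₁ g₀ (h1.trans hw.symm) U hU (h2.trans hU'.symm)

end Groth.Agent.Lib.WeilExt.Extend
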