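import Groth.Agent.Lib.WeilExt.Local
import Groth.Agent.Lib.WeilExt.Extend
import Groth.Agent.Lib.ModelFibre.Chart
import Groth.Agent.Lib.PBasis.FieldSmooth
import Groth.Agent.Lib.JacCrit.SmoothLocal
import Groth.Agent.Lib.StrictHenselShift.BaseRing
import Groth.Agent.H26.SectionExtendDvr
import Groth.Agent.S9262
import Mathlib.RingTheory.Etale.Field

/-!
# The Néron mapping property from points with values in unramified extensions

For a separated group scheme over a discrete valuation ring, locally of finite type, the mapping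
property follows from the extension of points with values in strictly henselian discrete valuation
rings of ramification index one.
-/

universe u

open CategoryTheory CategoryTheory.Limits MonoidalCategory CartesianMonoidalCategory
open AlgebraicGeometry TopologicalSpace IsLocalRing

namespace Groth.Agent.Lib.WeilExt.LftPoints

open Groth.Agent.Lib.ModelFibre.Stalk Groth.Agent.H26.SectionExtend

/-- A point of a dominating local ring which is rational over the fraction field of a valuation
ring comes from the valuation ring. -/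
theorem exists_factor_dominated {O O' K K' A : Type u} [CommRing O] [IsDomain O] [ValuationRing O]
    [CommRing O'] [Field K] [Algebra O K] [IsFractionRing O K] [CommRing K'] [CommRing A]
    [Nontrivial K']
    (φ : O →+* O') [IsLocalHom φ] (θ' : O' →+* K') (hθ' : Function.Injective θ') (j : K →+* K')
    (hj : θ'.comp φ = j.comp (algebraMap O K)) (β : A →+* O') (γ : A →+* K)
    (h : θ'.comp β = j.comp γ) : ∃ α : A →+* O, (algebraMap O K).comp α = γ := by
  have hrange : ∀ a, γ a ∈ (algebraMap O K).range := fun a => by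
    rcases Groth.Agent.H4.RatExt.mem_range_or_inv (O := O) (γ a) with h' | ⟨c, hc, hca⟩
    · exact h'
    exfalso
    have h1 : φ c * β a = 1 := hθ' (by
      rw [map_mul, map_one, show θ' (φ c) = j (algebraMap O K c) from RingHom.congr_fun hj c,
        show θ' (β a) = j (γ a) from RingHom.congr_fun h a, ← map_mul, hca, map_one])
    exact (mem_maximalIdeal c).mp hc (isUnit_of_map_unit φ c (IsUnit.of_mul_eq_one _ h1))
  refine ⟨(RingEquiv.ofBijective (algebraMap O K).rangeRestrict
    ⟨fun a b hab => IsFractionRing.injective O K (congrArg Subtype.val hab),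
      RingHom.rangeRestrict_surjective _⟩).symm.toRingHom.comp
      (γ.codRestrict _ hrange), RingHom.ext fun a => ?_⟩
  exact congrArg Subtype.val ((RingEquiv.ofBijective (algebraMap O K).rangeRestrict
    ⟨fun a b hab => IsFractionRing.injective O K (congrArg Subtype.val hab),
      RingHom.rangeRestrict_surjective _⟩).apply_symm_apply ⟨γ a, hrange a⟩)

variable {R : Type u} [CommRing R] [IsDomain R] [IsDiscreteValuationRing R]
  {X : Scheme.{u}} (pX : X ⟶ Spec (CommRingCat.of R)) [Smooth pX]

/-- The local ring at a codimension one point of the closed fibre of a smooth scheme. -/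
theorem exists_stalk_unramified (ξ : X) (hξ : pX ξ = closedPoint R)
    (h1 : ringKrullDim (X.presheaf.stalk ξ) ≤ 1) :
    ∃ (_ : IsLocalHom (baseHom pX ξ)) (_ : IsDomain (X.presheaf.stalk ξ)),
      IsDiscreteValuationRing (X.presheaf.stalk ξ) ∧
      (maximalIdeal R).map (baseHom pX ξ) = maximalIdeal (X.presheaf.stalk ξ) ∧
      (letI : Algebra R (X.presheaf.stalk ξ) := (baseHom pX ξ).toAlgebra
       ∀ [IsLocalHom (algebraMap R (X.presheaf.stalk ξ))],
        Algebra.FormallySmooth (ResidueField R) (ResidueField (X.presheaf.stalk ξ))) := by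
  have hloc : IsLocalHom (baseHom pX ξ) := by
    refine ((local_hom_TFAE (baseHom pX ξ)).out 0 4).mpr ?_
    have h := congr(($(fromSpecStalk_comp pX ξ)) (closedPoint (X.presheaf.stalk ξ)))
    rw [Scheme.Hom.comp_apply, Scheme.fromSpecStalk_closedPoint, hξ] at h
    exact (congrArg PrimeSpectrum.asIdeal h).symm
  have := Groth.Agent.Lib.WeilExt.Basic.isRegularLocalRing_stalk pX ξ
  have hdom : IsDomain (X.presheaf.stalk ξ) := Groth.Agent.Lib.Regular.Quotient.isDomain _
  obtain ⟨ϖ, hϖ⟩ := IsDiscreteValuationRing.exists_irreducible R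
  have hne : baseHom pX ξ ϖ ≠ 0 := fun h0 => by
    have h := Groth.Agent.Lib.ModelFibre.Chart.isSMulRegular_baseHom pX ξ
      (IsRegular.of_ne_zero hϖ.ne_zero)
    exact one_ne_zero (h (show baseHom pX ξ ϖ • (1 : X.presheaf.stalk ξ) = baseHom pX ξ ϖ • 0 by
      rw [h0, zero_smul, zero_smul]))
  have hbot : (maximalIdeal R).map (baseHom pX ξ) ≠ ⊥ := fun h0 => hne (by
    have := Ideal.mem_map_of_mem (baseHom pX ξ) ((mem_maximalIdeal ϖ).mpr hϖ.not_isUnit)
    rw [h0] at this
    exact (Submodule.mem_bot _).mp this)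
  have hnf : ¬ IsField (X.presheaf.stalk ξ) := fun hf => by
    rw [isField_iff_maximalIdeal_eq] at hf
    exact hbot (eq_bot_iff.mpr (hf ▸ map_maximalIdeal_le (baseHom pX ξ)))
  have hd : ringKrullDim (X.presheaf.stalk ξ) = 1 := by
    refine le_antisymm h1 ?_
    rw [← maximalIdeal_height_eq_ringKrullDim]
    refine WithBot.coe_le_coe.mpr ?_
    rw [ENat.one_le_iff_ne_zero]
    intro h0
    rw [Ideal.height_eq_zero_iff, IsDomain.minimalPrimes_eq_singleton_bot] at h0
    exact hnf (isField_iff_maximalIdeal_eq.mpr h0)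
  obtain ⟨_, hdvr⟩ := (Groth.Agent.Lib.Regular.Descent.isDiscreteValuationRing_iff).mpr
    ⟨inferInstanceAs (IsRegularLocalRing (X.presheaf.stalk ξ)), hd⟩
  -- smoothness of the local ring
  obtain ⟨_, ⟨U, hU, rfl⟩, hxU, -⟩ :=
    X.isBasis_affineOpens.exists_subset_of_mem_open (Set.mem_univ ξ) isOpen_univ
  have : IsOpenImmersion hU.fromSpec := hU.isOpenImmersion_fromSpec
  have hsm : (Groth.Agent.Lib.ModelFibre.Chart.chartHom pX hU).hom.Smooth := by
    rw [← HasRingHomProperty.Spec_iff (P := @Smooth), Groth.Agent.Lib.ModelFibre.Chart.chartHom,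
      Spec.map_preimage]
    infer_instance
  let := (Groth.Agent.Lib.ModelFibre.Chart.chartHom pX hU).hom.toAlgebra
  let algU : Algebra Γ(X, U) (X.presheaf.stalk ξ) := (X.presheaf.germ U ξ hxU).hom.toAlgebra
  have : IsLocalization.AtPrime (X.presheaf.stalk ξ) (hU.primeIdealOf ⟨ξ, hxU⟩).asIdeal :=
    hU.isLocalization_stalk ⟨ξ, hxU⟩
  let algR : Algebra R (X.presheaf.stalk ξ) := (baseHom pX ξ).toAlgebra
  have : IsScalarTower R Γ(X, U) (X.presheaf.stalk ξ) :=
    IsScalarTower.of_algebraMap_eq' (Groth.Agent.Lib.ModelFibre.Chart.baseHom_eq pX hU hxU)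
  have : Algebra.Smooth R Γ(X, U) := hsm
  have : Algebra.FormallyEtale Γ(X, U) (X.presheaf.stalk ξ) :=
    .of_isLocalization (hU.primeIdealOf ⟨ξ, hxU⟩).asIdeal.primeCompl
  have hfs : Algebra.FormallySmooth R (X.presheaf.stalk ξ) := .comp R Γ(X, U) _
  have : Algebra.EssFiniteType Γ(X, U) (X.presheaf.stalk ξ) :=
    .of_isLocalization _ (hU.primeIdealOf ⟨ξ, hxU⟩).asIdeal.primeCompl
  have hess : Algebra.EssFiniteType R (X.presheaf.stalk ξ) := .comp R Γ(X, U) _
  -- the closed fibre is a field
  have := Groth.Agent.Lib.JacCrit.SmoothLocal.isRegularLocalRing_fibre (baseHom pX ξ) hess hfs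
  have hfd : IsDomain (X.presheaf.stalk ξ ⧸ (maximalIdeal R).map (baseHom pX ξ)) :=
    Groth.Agent.Lib.Regular.Quotient.isDomain _
  have hprime : ((maximalIdeal R).map (baseHom pX ξ)).IsPrime :=
    (Ideal.Quotient.isDomain_iff_prime _).mp hfd
  have hmap : (maximalIdeal R).map (baseHom pX ξ) = maximalIdeal (X.presheaf.stalk ξ) :=
    eq_maximalIdeal (hprime.isMaximal hbot)
  refine ⟨hloc, hdom, hdvr, hmap, ?_⟩
  intro _
  let : Algebra (ResidueField R) (X.presheaf.stalk ξ ⧸ (maximalIdeal R).map (baseHom pX ξ)) :=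
    (Ideal.quotientMap ((maximalIdeal R).map (baseHom pX ξ)) (baseHom pX ξ)
      Ideal.le_comap_map).toAlgebra
  obtain ⟨e⟩ := Groth.Agent.Lib.JacCrit.SmoothLocal.nonempty_fibreEquiv (baseHom pX ξ)
  have : Algebra.FormallySmooth (ResidueField R)
      (X.presheaf.stalk ξ ⧸ (maximalIdeal R).map (baseHom pX ξ)) :=
    Algebra.FormallySmooth.of_equiv e
  let e' : (X.presheaf.stalk ξ ⧸ (maximalIdeal R).map (baseHom pX ξ)) ≃ₐ[ResidueField R]
      ResidueField (X.presheaf.stalk ξ) :=
    AlgEquiv.ofRingEquiv (f := Ideal.quotEquivOfEq hmap) fun z => by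
      obtain ⟨r, rfl⟩ := residue_surjective z
      rfl
  exact Algebra.FormallySmooth.of_equiv e'

/-- Descent of an extension of a rational point along a dominating local ring. -/
theorem exists_descend {G : Scheme.{u}} (pG : G ⟶ Spec (CommRingCat.of R))
    (O : Type u) [CommRing O] [IsDomain O] [ValuationRing O] [Algebra R O]
    (O' : Type u) [CommRing O'] [IsDomain O'] [IsLocalRing O'] [Algebra O O']
    [IsLocalHom (algebraMap O O')] (j : FractionRing O →+* FractionRing O')
    (hj : (algebraMap O' (FractionRing O')).comp (algebraMap O O') =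
      j.comp (algebraMap O (FractionRing O)))
    (φ₀ : Spec (CommRingCat.of (FractionRing O)) ⟶ G)
    (hφ₀ : φ₀ ≫ pG = genMap O ≫ Spec.map (CommRingCat.ofHom (algebraMap R O)))
    (y : Spec (CommRingCat.of O') ⟶ G)
    (hyx : Spec.map (CommRingCat.ofHom (algebraMap O' (FractionRing O'))) ≫ y =
      Spec.map (CommRingCat.ofHom j) ≫ φ₀) :
    ∃ φ : Spec (CommRingCat.of O) ⟶ G,
      φ ≫ pG = Spec.map (CommRingCat.ofHom (algebraMap R O)) ∧ genMap O ≫ φ = φ₀ := by
  -- everything happens in an affine open around the image of the closed point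
  obtain ⟨_, ⟨V, hV, rfl⟩, hyV, -⟩ := G.isBasis_affineOpens.exists_subset_of_mem_open
    (Set.mem_univ (y (closedPoint O'))) isOpen_univ
  have : IsOpenImmersion hV.fromSpec := hV.isOpenImmersion_fromSpec
  have hyr : Set.range y ⊆ Set.range hV.fromSpec := by
    rw [IsAffineOpen.range_fromSpec]
    rintro _ ⟨z, rfl⟩
    exact forall_mem_of_closedPoint y V hyV z
  have hφr : Set.range φ₀ ⊆ Set.range hV.fromSpec := by
    rintro _ ⟨z, rfl⟩
    refine hyr ⟨genMap O' (closedPoint (FractionRing O')), ?_⟩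
    rw [← Scheme.Hom.comp_apply, genMap, hyx, Scheme.Hom.comp_apply]
    exact congrArg φ₀ (Subsingleton.elim (α := PrimeSpectrum (FractionRing O)) _ _)
  let β := Spec.preimage (IsOpenImmersion.lift hV.fromSpec y hyr)
  let c := Spec.preimage (IsOpenImmersion.lift hV.fromSpec φ₀ hφr)
  have hβ : Spec.map β ≫ hV.fromSpec = y := by
    rw [Spec.map_preimage, IsOpenImmersion.lift_fac]
  have hc : Spec.map c ≫ hV.fromSpec = φ₀ := by
    rw [Spec.map_preimage, IsOpenImmersion.lift_fac]
  have hbc : (algebraMap O' (FractionRing O')).comp β.hom = j.comp c.hom := by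
    suffices β ≫ CommRingCat.ofHom (algebraMap O' (FractionRing O')) = c ≫ CommRingCat.ofHom j from
      congrArg CommRingCat.Hom.hom this
    apply Spec.map_injective
    rw [← cancel_mono hV.fromSpec, Spec.map_comp, Spec.map_comp, Category.assoc, Category.assoc,
      hβ, hc, hyx]
  obtain ⟨a, ha⟩ := exists_factor_dominated (algebraMap O O') (algebraMap O' (FractionRing O'))
    (IsFractionRing.injective _ _) j hj β.hom c.hom hbc
  have hfac : genMap O ≫ Spec.map (CommRingCat.ofHom a) ≫ hV.fromSpec = φ₀ := by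
    rw [← Category.assoc, genMap, ← Spec.map_comp, ← hc]
    congr 2
    exact CommRingCat.hom_ext ha
  refine ⟨Spec.map (CommRingCat.ofHom a) ≫ hV.fromSpec, ?_, hfac⟩
  let q := Spec.preimage (hV.fromSpec ≫ pG)
  have hq : Spec.map q = hV.fromSpec ≫ pG := Spec.map_preimage _
  rw [Category.assoc, ← hq, ← Spec.map_comp]
  congr 1
  apply CommRingCat.hom_ext
  refine RingHom.ext fun r => IsFractionRing.injective O (FractionRing O) ?_
  have h2 : q ≫ c = CommRingCat.ofHom (algebraMap R O) ≫
      CommRingCat.ofHom (algebraMap O (FractionRing O)) := by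
    apply Spec.map_injective
    rw [Spec.map_comp, hq, ← Category.assoc, hc, hφ₀, Spec.map_comp]
  exact (RingHom.congr_fun ha (q.hom r)).trans congr($(h2).hom r)

/-- A discrete valuation ring has a strictly henselian extension of ramification index one with
separable residue field extension. -/
theorem exists_strictlyHenselian_ext (O : Type u) [CommRing O] [IsDomain O]
    [IsDiscreteValuationRing O] :
    ∃ (O' : Type u) (_ : CommRing O') (_ : IsDomain O') (_ : IsDiscreteValuationRing O')
      (_ : HenselianLocalRing O') (_ : Algebra O O') (_ : IsLocalHom (algebraMap O O')),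
      Function.Injective (algebraMap O O') ∧
      (maximalIdeal O).map (algebraMap O O') = maximalIdeal O' ∧
      IsSepClosed (ResidueField O') ∧ Algebra.IsSeparable (ResidueField O) (ResidueField O') := by
  obtain ⟨hd, hdvr⟩ := (Groth.Agent.S9262.result O
    (Groth.Agent.Lib.Henselian.Henselization.Henselization O)
    (Groth.Agent.Lib.Henselian.StrictHenselization.StrictHenselization O)).2.mp
      ⟨inferInstance, inferInstance⟩
  have := Groth.Agent.Lib.Henselian.StrictHenselization.faithfullyFlat O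
    (Groth.Agent.Lib.Henselian.StrictHenselization.StrictHenselization O)
  exact ⟨_, inferInstance, hd, hdvr, inferInstance, inferInstance, inferInstance,
    FaithfulSMul.algebraMap_injective O _,
    Groth.Agent.Lib.Henselian.StrictHenselization.map_maximalIdeal O _,
    Groth.Agent.Lib.StrictHenselShift.isSepClosed_residueField O,
    (Hensel.IsStrictHenselization.isSepClosure (R := O)
      (S := Groth.Agent.Lib.Henselian.StrictHenselization.StrictHenselization O)).separable⟩

/-- A point of a separated scheme with values in the fraction field of an unramified extension of the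
base extends to it, if points with values in unramified strictly henselian extensions of the base do. -/
theorem exists_dvr_ext {G : Scheme.{u}} (pG : G ⟶ Spec (CommRingCat.of R))
    (h : ∀ (R' : Type u) [CommRing R'] [IsDomain R'] [IsDiscreteValuationRing R'] [Algebra R R']
        [IsLocalHom (algebraMap R R')] [HenselianLocalRing R'] [IsSepClosed (ResidueField R')],
      (maximalIdeal R).map (algebraMap R R') = maximalIdeal R' →
      Algebra.IsGeometricallyReduced (ResidueField R) (ResidueField R') →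
      ∀ x : Spec (CommRingCat.of (FractionRing R')) ⟶ G,
        x ≫ pG = Spec.map (CommRingCat.ofHom ((algebraMap R' (FractionRing R')).comp (algebraMap R R'))) →
        ∃ y : Spec (CommRingCat.of R') ⟶ G, y ≫ pG = Spec.map (CommRingCat.ofHom (algebraMap R R')) ∧
          Spec.map (CommRingCat.ofHom (algebraMap R' (FractionRing R'))) ≫ y = x)
    (O : Type u) [CommRing O] [IsDomain O] [IsDiscreteValuationRing O] [Algebra R O]
    [IsLocalHom (algebraMap R O)]
    (hmap : (maximalIdeal R).map (algebraMap R O) = maximalIdeal O)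
    [Algebra.FormallySmooth (ResidueField R) (ResidueField O)]
    (φ₀ : Spec (CommRingCat.of (FractionRing O)) ⟶ G)
    (hφ₀ : φ₀ ≫ pG = genMap O ≫ Spec.map (CommRingCat.ofHom (algebraMap R O))) :
    ∃ φ : Spec (CommRingCat.of O) ⟶ G,
      φ ≫ pG = Spec.map (CommRingCat.ofHom (algebraMap R O)) ∧ genMap O ≫ φ = φ₀ := by
  obtain ⟨O', _, _, _, _, _, _, hinj, hm, hsc, hsep⟩ := exists_strictlyHenselian_ext O
  let algR' : Algebra R O' := ((algebraMap O O').comp (algebraMap R O)).toAlgebra
  have : IsScalarTower R O O' := IsScalarTower.of_algebraMap_eq' rfl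
  have : IsLocalHom (algebraMap R O') :=
    inferInstanceAs (IsLocalHom ((algebraMap O O').comp (algebraMap R O)))
  have hmap' : (maximalIdeal R).map (algebraMap R O') = maximalIdeal O' := by
    rw [RingHom.algebraMap_toAlgebra, ← Ideal.map_map,
      show (maximalIdeal R).map (algebraMap R O) = maximalIdeal O from hmap]
    exact hm
  have hgr : Algebra.IsGeometricallyReduced (ResidueField R) (ResidueField O') := by
    have : Algebra.FormallyEtale (ResidueField O) (ResidueField O') :=
      Algebra.FormallyEtale.of_isSeparable _ _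
    exact Groth.Agent.Lib.PBasis.FieldSmooth.formallySmooth_iff_isGeometricallyReduced.mp
      (Algebra.FormallySmooth.comp (ResidueField R) (ResidueField O) (ResidueField O'))
  obtain ⟨j, hj⟩ : ∃ j : FractionRing O →+* FractionRing O',
      (algebraMap O' (FractionRing O')).comp (algebraMap O O') =
        j.comp (algebraMap O (FractionRing O)) := by
    have hg : Function.Injective ((algebraMap O' (FractionRing O')).comp (algebraMap O O')) := by
      rw [RingHom.coe_comp]
      exact (IsFractionRing.injective O' (FractionRing O')).comp hinj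
    exact ⟨IsFractionRing.lift (K := FractionRing O) hg,
      RingHom.ext fun a => (IsFractionRing.lift_algebraMap (K := FractionRing O) hg a).symm⟩
  obtain ⟨y, -, hyx⟩ := h O' hmap' hgr (Spec.map (CommRingCat.ofHom j) ≫ φ₀) (by
    rw [Category.assoc, hφ₀, genMap, ← Spec.map_comp, ← Spec.map_comp,
      RingHom.algebraMap_toAlgebra, ← RingHom.comp_assoc, hj]
    rfl)
  exact exists_descend pG O O' j hj φ₀ hφ₀ y hyx

/-- A point of a separated scheme with values in the fraction field of the local ring of a codimension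
one point of the closed fibre extends to the local ring, if points with values in unramified strictly
henselian extensions of the base do. -/
theorem exists_stalk_ext {G : Scheme.{u}} (pG : G ⟶ Spec (CommRingCat.of R))
    (h : ∀ (R' : Type u) [CommRing R'] [IsDomain R'] [IsDiscreteValuationRing R'] [Algebra R R']
        [IsLocalHom (algebraMap R R')] [HenselianLocalRing R'] [IsSepClosed (ResidueField R')],
      (maximalIdeal R).map (algebraMap R R') = maximalIdeal R' →
      Algebra.IsGeometricallyReduced (ResidueField R) (ResidueField R') →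
      ∀ x : Spec (CommRingCat.of (FractionRing R')) ⟶ G,
        x ≫ pG = Spec.map (CommRingCat.ofHom ((algebraMap R' (FractionRing R')).comp (algebraMap R R'))) →
        ∃ y : Spec (CommRingCat.of R') ⟶ G, y ≫ pG = Spec.map (CommRingCat.ofHom (algebraMap R R')) ∧
          Spec.map (CommRingCat.ofHom (algebraMap R' (FractionRing R'))) ≫ y = x)
    (ξ : X) (hξ : pX ξ = closedPoint R) (h1 : ringKrullDim (X.presheaf.stalk ξ) ≤ 1)
    [IsDomain (X.presheaf.stalk ξ)]
    (φ₀ : Spec (CommRingCat.of (FractionRing (X.presheaf.stalk ξ))) ⟶ G)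
    (hφ₀ : φ₀ ≫ pG = genMap (X.presheaf.stalk ξ) ≫ X.fromSpecStalk ξ ≫ pX) :
    ∃ φ : Spec (X.presheaf.stalk ξ) ⟶ G,
      φ ≫ pG = X.fromSpecStalk ξ ≫ pX ∧ genMap (X.presheaf.stalk ξ) ≫ φ = φ₀ := by
  obtain ⟨hloc, _, hdvr, hmap, hfs⟩ := exists_stalk_unramified pX ξ hξ h1
  let : Algebra R (X.presheaf.stalk ξ) := (baseHom pX ξ).toAlgebra
  have : IsLocalHom (algebraMap R (X.presheaf.stalk ξ)) := hloc
  have : Algebra.FormallySmooth (ResidueField R) (ResidueField (X.presheaf.stalk ξ)) := hfs
  have hbase : X.fromSpecStalk ξ ≫ pX =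
      Spec.map (CommRingCat.ofHom (algebraMap R (X.presheaf.stalk ξ))) := fromSpecStalk_comp pX ξ
  rw [hbase] at hφ₀ ⊢
  exact exists_dvr_ext pG h (X.presheaf.stalk ξ) hmap φ₀ hφ₀

end Groth.Agent.Lib.WeilExt.LftPoints

namespace Groth.Agent.Lib.WeilExt.LftPoints

open Groth.Agent.Lib.WeilExt.Basic Groth.Agent.Lib.WeilExt.Generic Groth.Agent.H26.SectionExtend

/-- A morphism on a dense open extends uniquely if it extends at the points of codimension one. -/
theorem existsUnique_of_codim_one {R : Type u} [CommRing R] [IsDedekindDomain R] {X G : Scheme.{u}}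
    (pX : X ⟶ Spec (CommRingCat.of R)) [Smooth pX] (pG : G ⟶ Spec (CommRingCat.of R))
    [GrpObj (Over.mk pG)] [IsSeparated pG] [LocallyOfFiniteType pG]
    (U₀ : X.Opens) (hU₀d : Dense (U₀ : Set X)) (k₀ : (U₀ : Scheme.{u}) ⟶ G)
    (hk₀ : k₀ ≫ pG = U₀.ι ≫ pX)
    (hpt : ∀ ξ : X, ξ ∉ U₀ → ringKrullDim (X.presheaf.stalk ξ) ≤ 1 →
      ∃ φ : Spec (X.presheaf.stalk ξ) ⟶ G, φ ≫ pG = X.fromSpecStalk ξ ≫ pX ∧
        ∀ (ζ : X) (hsp : ζ ⤳ ξ) (hζ : ζ ∈ U₀), IsMinimalPt ζ →
          Spec.map (X.presheaf.stalkSpecializes hsp) ≫ φ = U₀.fromSpecStalkOfMem ζ hζ ≫ k₀) :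
    ∃! g : X ⟶ G, g ≫ pG = pX ∧ U₀.ι ≫ g = k₀ := by
  have : IsLocallyNoetherian X := isLocallyNoetherian_of_smooth pX
  have : IsReduced X := isReduced_of_smooth pX
  have : ∀ x : X, IsDomain (X.presheaf.stalk x) := fun x =>
    have := isRegularLocalRing_stalk pX x
    Groth.Agent.Lib.Regular.Quotient.isDomain _
  have hloc : ∀ ξ : {ξ : X // ringKrullDim (X.presheaf.stalk ξ) ≤ 1},
      ∃ (V : X.Opens) (g : (V : Scheme.{u}) ⟶ G), ξ.1 ∈ V ∧ g ≫ pG = V.ι ≫ pX ∧
        X.homOfLE (inf_le_left : V ⊓ U₀ ≤ V) ≫ g = X.homOfLE (inf_le_right : V ⊓ U₀ ≤ U₀) ≫ k₀ := by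
    rintro ⟨ξ, hξ⟩
    by_cases hs : ξ ∈ U₀
    · exact ⟨U₀, k₀, hs, hk₀, rfl⟩
    obtain ⟨φ, hφ, hφc⟩ := hpt ξ hs hξ
    obtain ⟨U', hξU', g', hg', hg'S⟩ := spread_out_of_isGermInjective' pX pG φ hφ
    obtain ⟨W, hξW, hWint⟩ := Groth.Agent.Lib.FinCond.exists_integral_nhd X ξ
    let V := U' ⊓ W
    let gV : (V : Scheme.{u}) ⟶ G := X.homOfLE inf_le_left ≫ g'
    have hgVS : gV ≫ pG = V.ι ≫ pX := by
      rw [Category.assoc, hg'S, Scheme.homOfLE_ι_assoc]
    refine ⟨V, gV, ⟨hξU', hξW⟩, hgVS, ?_⟩
    let O := V ⊓ U₀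
    have : IsReduced (O : Scheme.{u}) := isReduced_of_isOpenImmersion O.ι
    refine Groth.Agent.Lib.WeilExt.Local.eq_of_fromSpecStalk pG _ _
      (by simp only [Category.assoc, gV, hg'S, hk₀, Scheme.homOfLE_ι_assoc]) fun z hz => ?_
    have hmin : IsMinimalPt z.1 := fun w hw => by
      have := hz ⟨w, hw.mem_open O.isOpen z.2⟩ (O.ι.isEmbedding.isInducing.specializes_iff.mp hw)
      exact congrArg Subtype.val this
    have hgen : W.ι (genericPoint (W : Scheme.{u})) = z.1 := hmin _
      (((genericPoint_spec (W : Scheme.{u})).specializes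
        (Set.mem_univ (⟨z.1, z.2.1.2⟩ : (W : Scheme.{u})))).map W.ι.continuous)
    have hsp : z.1 ⤳ ξ := by
      have h := ((genericPoint_spec (W : Scheme.{u})).specializes
        (Set.mem_univ (⟨ξ, hξW⟩ : (W : Scheme.{u})))).map W.ι.continuous
      rw [hgen] at h
      exact h
    have e : ∀ (T : X.Opens) (hle : O ≤ T), Spec.map (inv (O.ι.stalkMap z)) ≫
        (O : Scheme.{u}).fromSpecStalk z ≫ X.homOfLE hle = T.fromSpecStalkOfMem z.1 (hle z.2) := by
      intro T hle
      rw [← cancel_mono T.ι]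
      simp
      exact (Scheme.SpecMap_stalkMap_fromSpecStalk O.ι).symm
    rw [← cancel_epi (Spec.map (inv (O.ι.stalkMap z))), reassoc_of% (e U₀ inf_le_right)]
    refine Eq.trans ?_ (hφc z.1 hsp z.2.2 hmin)
    have hUz := Groth.Agent.Lib.WeilExt.Local.stalkSpecializes_fromSpecStalkOfMem U' hsp
      z.2.1.1 hξU'
    rw [hg', reassoc_of% hUz]
    refine Eq.trans ?_ ((reassoc_of% (e U' (inf_le_left.trans inf_le_left))) g')
    simp [gV, O]
  choose V g hξV hg hgV using hloc
  -- glue with the generic fibre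
  let U' : Option {ξ : X // ringKrullDim (X.presheaf.stalk ξ) ≤ 1} → X.Opens := fun o => o.elim U₀ V
  let g' : ∀ o, (U' o : Scheme.{u}) ⟶ G := fun o => match o with
    | none => k₀
    | some ξ => g ξ
  have hg'S : ∀ o, g' o ≫ pG = (U' o).ι ≫ pX := fun o => match o with
    | none => hk₀
    | some ξ => hg ξ
  have hg'U : ∀ o, X.homOfLE (inf_le_left : U' o ⊓ U₀ ≤ U' o) ≫ g' o =
      X.homOfLE (inf_le_right : U' o ⊓ U₀ ≤ U₀) ≫ k₀ := fun o => match o with
    | none => rfl
    | some ξ => hgV ξ
  obtain ⟨g₁, hg₁⟩ := Groth.Agent.H26.SectionExtend.exists_glue U' g' fun o o' => by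
    let O := U' o ⊓ U' o'
    refine eq_of_dense pG _ _ ?_ (O.ι ⁻¹ᵁ U₀) (hU₀d.preimage (f := O.ι) (Scheme.Hom.isOpenMap _)) ?_
    · rw [Category.assoc, Category.assoc, hg'S, hg'S, Scheme.homOfLE_ι_assoc, Scheme.homOfLE_ι_assoc]
    · have main : ∀ (o₁) (hle : O ≤ U' o₁),
          (O.ι ⁻¹ᵁ U₀).ι ≫ X.homOfLE hle ≫ g' o₁ = O.ι.resLE U₀ _ le_rfl ≫ k₀ := by
        intro o₁ hle
        let a : (O.ι ⁻¹ᵁ U₀).toScheme ⟶ ((U' o₁ ⊓ U₀ : X.Opens) : Scheme.{u}) :=
          O.ι.resLE _ _ (fun z hz => ⟨hle z.2, hz⟩)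
        have e1 : a ≫ X.homOfLE (inf_le_left : U' o₁ ⊓ U₀ ≤ U' o₁) =
            (O.ι ⁻¹ᵁ U₀).ι ≫ X.homOfLE hle := by
          rw [← cancel_mono (U' o₁).ι]
          simp [a, Scheme.Hom.resLE_comp_ι]
        have e2 : a ≫ X.homOfLE (inf_le_right : U' o₁ ⊓ U₀ ≤ U₀) = O.ι.resLE U₀ _ le_rfl := by
          rw [← cancel_mono U₀.ι]
          simp [a, Scheme.Hom.resLE_comp_ι]
        rw [← reassoc_of% e1, hg'U, reassoc_of% e2]
      rw [main o inf_le_left, main o' inf_le_right]
  let U : X.Opens := ⨆ o, U' o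
  have hU₀U : U₀ ≤ U := le_iSup U' none
  have hg₁U : X.homOfLE hU₀U ≫ g₁ = k₀ := hg₁ none
  have hg₁S : g₁ ≫ pG = U.ι ≫ pX := (Scheme.Opens.iSupOpenCover U').hom_ext _ _ fun o => by
    change X.homOfLE (le_iSup U' o) ≫ g₁ ≫ pG = X.homOfLE (le_iSup U' o) ≫ _
    rw [reassoc_of% hg₁ o, hg'S, Scheme.homOfLE_ι_assoc]
  have hUc : ∀ y : X, ringKrullDim (X.presheaf.stalk y) ≤ 1 → y ∈ U := fun y hy =>
    le_iSup U' (some ⟨y, hy⟩) (hξV ⟨y, hy⟩)
  obtain ⟨gg, ⟨hgg, hggU⟩, -⟩ := Groth.Agent.Lib.WeilExt.Extend.existsUnique_extension pX pG U g₁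
    (fibrewise_dense pX U hUc) (fun y hy => two_le_of_not_le_one fun h => hy (hUc y h)) hg₁S
  have hgk : U₀.ι ≫ gg = k₀ := by rw [← hg₁U, ← hggU, Scheme.homOfLE_ι_assoc]
  refine ⟨gg, ⟨hgg, hgk⟩, fun g₂ ⟨h1, h2⟩ => ?_⟩
  exact eq_of_dense pG g₂ gg (h1.trans hgg.symm) U₀ hU₀d (h2.trans hgk.symm)

variable {R : Type u} [CommRing R] [IsDomain R] [IsDiscreteValuationRing R]

/-- The Néron mapping property from points in unramified strictly henselian extensions. -/
theorem existsUnique_of_unramified_points {X G : Scheme.{u}}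
    (pX : X ⟶ Spec (CommRingCat.of R)) [Smooth pX] (pG : G ⟶ Spec (CommRingCat.of R))
    [GrpObj (Over.mk pG)] [IsSeparated pG] [LocallyOfFiniteType pG]
    [IsOpenImmersion (Neron.genPt R)]
    (h : ∀ (R' : Type u) [CommRing R'] [IsDomain R'] [IsDiscreteValuationRing R'] [Algebra R R']
        [IsLocalHom (algebraMap R R')] [HenselianLocalRing R'] [IsSepClosed (ResidueField R')],
      (maximalIdeal R).map (algebraMap R R') = maximalIdeal R' →
      Algebra.IsGeometricallyReduced (ResidueField R) (ResidueField R') →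
      ∀ x : Spec (CommRingCat.of (FractionRing R')) ⟶ G,
        x ≫ pG = Spec.map (CommRingCat.ofHom ((algebraMap R' (FractionRing R')).comp (algebraMap R R'))) →
        ∃ y : Spec (CommRingCat.of R') ⟶ G, y ≫ pG = Spec.map (CommRingCat.ofHom (algebraMap R R')) ∧
          Spec.map (CommRingCat.ofHom (algebraMap R' (FractionRing R'))) ≫ y = x)
    (k : pullback pX (Neron.genPt R) ⟶ G) (hk' : k ≫ pG = pullback.fst _ _ ≫ pX) :
    ∃! g : X ⟶ G, g ≫ pG = pX ∧ pullback.fst pX (Neron.genPt R) ≫ g = k := by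
  have : IsLocallyNoetherian X := isLocallyNoetherian_of_smooth pX
  let j := pullback.fst pX (Neron.genPt R)
  let U₀ : X.Opens := j.opensRange
  let e : (U₀ : Scheme.{u}) ≅ pullback pX (Neron.genPt R) := j.isoOpensRange.symm
  have hej : e.hom ≫ j = U₀.ι := j.isoOpensRange_inv_comp
  let k₀ : (U₀ : Scheme.{u}) ⟶ G := e.hom ≫ k
  have hk₀ : k₀ ≫ pG = U₀.ι ≫ pX := by rw [Category.assoc, hk', ← reassoc_of% hej]
  have hU₀ : ∀ x : X, (pX x : PrimeSpectrum R).asIdeal = ⊥ → x ∈ U₀ := by
    intro x hx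
    let b : Spec (CommRingCat.of (FractionRing R)) := default
    have hb : Neron.genPt R b = pX x := by
      refine PrimeSpectrum.ext (Eq.trans ?_ hx.symm)
      change Ideal.comap (algebraMap R (FractionRing R)) (⊥ : Ideal _) = ⊥
      exact Ideal.comap_bot_of_injective _ (IsFractionRing.injective R _)
    obtain ⟨z, hz, -⟩ := Scheme.Pullback.exists_preimage_pullback x b hb.symm
    exact ⟨z, hz⟩
  have hU₀d : Dense (U₀ : Set X) := Dense.mono
    (fun ξ hξ => hU₀ ξ (apply_minimal pX hξ)) (dense_isMinimalPt X)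
  have key := existsUnique_of_codim_one pX pG U₀ hU₀d k₀ hk₀ (fun ξ hs hξ => by
    have := isRegularLocalRing_stalk pX ξ
    have : IsDomain (X.presheaf.stalk ξ) := Groth.Agent.Lib.Regular.Quotient.isDomain _
    have hclosedpt : pX ξ = closedPoint R := by
      by_contra hne
      refine hs (hU₀ ξ ?_)
      by_contra hb
      exact hne (PrimeSpectrum.ext (IsLocalRing.eq_maximalIdeal
        (Ideal.IsPrime.isMaximal (pX ξ : PrimeSpectrum R).isPrime hb)))
    let g0 := genMap (X.presheaf.stalk ξ) ≫ X.fromSpecStalk ξ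
    have hg0 : ∀ b, g0 b ∈ U₀ := fun b => by
      refine hU₀ _ (apply_minimal pX fun z hz => ?_)
      rw [Scheme.Hom.comp_apply, genMap_apply] at hz ⊢
      obtain ⟨q, rfl⟩ : z ∈ Set.range (X.fromSpecStalk ξ) := by
        rw [Scheme.range_fromSpecStalk]
        refine hz.trans ?_
        have := ((genericPoint_spec (Spec (X.presheaf.stalk ξ))).specializes
          (Set.mem_univ (IsLocalRing.closedPoint (X.presheaf.stalk ξ)))).map
            (X.fromSpecStalk ξ).continuous
        rwa [Scheme.fromSpecStalk_closedPoint] at this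
      have hq : q ⤳ genericPoint (Spec (X.presheaf.stalk ξ)) :=
        (X.fromSpecStalk ξ).isEmbedding.isInducing.specializes_iff.mp hz
      exact congrArg (X.fromSpecStalk ξ)
        (hq.antisymm ((genericPoint_spec (Spec (X.presheaf.stalk ξ))).specializes trivial)).eq
    obtain ⟨a, ha⟩ := exists_lift_opens g0 U₀ hg0
    obtain ⟨φ, hφ, hφg⟩ := exists_stalk_ext pX pG h ξ hclosedpt hξ (a ≫ k₀)
      (by rw [Category.assoc, hk₀, reassoc_of% ha]; simp [g0])
    refine ⟨φ, hφ, fun ζ hsp hζ hζmin => ?_⟩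
    have := isRegularLocalRing_stalk pX ζ
    have : IsDomain (X.presheaf.stalk ζ) := Groth.Agent.Lib.Regular.Quotient.isDomain _
    -- the local ring at a generic point is the fraction field
    have hfld : IsField (X.presheaf.stalk ζ) := by
      by_contra hf
      obtain ⟨q, hq⟩ : ∃ q : PrimeSpectrum (X.presheaf.stalk ζ),
          q ≠ closedPoint (X.presheaf.stalk ζ) :=
        ⟨⟨⊥, Ideal.isPrime_bot⟩, fun hq => hf (isField_iff_maximalIdeal_eq.mpr
          (congrArg PrimeSpectrum.asIdeal hq).symm)⟩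
      refine hq ((X.fromSpecStalk ζ).isEmbedding.injective ?_)
      rw [Scheme.fromSpecStalk_closedPoint]
      refine hζmin _ ?_
      have := (specializes_closedPoint q).map (X.fromSpecStalk ζ).continuous
      rwa [Scheme.fromSpecStalk_closedPoint] at this
    let := hfld.toField
    let ψ := X.presheaf.stalkSpecializes hsp
    have hinjψ : Function.Injective ψ.hom := by
      rw [injective_iff_map_eq_zero]
      intro x hx
      by_contra hx0
      let P := RingHom.ker ψ.hom
      have hP : P.IsPrime := RingHom.ker_isPrime _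
      obtain ⟨_, hdvr, -, -⟩ := (exists_stalk_unramified pX ξ hclosedpt hξ).choose_spec
      have hmax : P = maximalIdeal _ := eq_maximalIdeal (hP.isMaximal (fun hb => hx0 (by
        have : x ∈ P := hx
        rw [hb] at this
        exact this)))
      have h1 := congr(($(Scheme.SpecMap_stalkSpecializes_fromSpecStalk hsp)) (closedPoint _))
      rw [Scheme.Hom.comp_apply, Scheme.fromSpecStalk_closedPoint] at h1
      have h2 : Spec.map ψ (closedPoint _) = closedPoint (X.presheaf.stalk ξ) := PrimeSpectrum.ext (by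
        refine Eq.trans ?_ hmax
        change Ideal.comap ψ.hom (maximalIdeal _) = _
        rw [isField_iff_maximalIdeal_eq.mp hfld]
        rfl)
      rw [h2, Scheme.fromSpecStalk_closedPoint] at h1
      exact hs (h1 ▸ hζ)
    let c : FractionRing (X.presheaf.stalk ξ) →+* X.presheaf.stalk ζ :=
      IsFractionRing.lift (K := FractionRing (X.presheaf.stalk ξ)) hinjψ
    have hc : ψ = CommRingCat.ofHom (algebraMap (X.presheaf.stalk ξ) (FractionRing (X.presheaf.stalk ξ))) ≫
        CommRingCat.ofHom c :=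
      CommRingCat.hom_ext (RingHom.ext fun x =>
        (IsFractionRing.lift_algebraMap (K := FractionRing (X.presheaf.stalk ξ)) hinjψ x).symm)
    have e2 : Spec.map ψ = Spec.map (CommRingCat.ofHom c) ≫ genMap (X.presheaf.stalk ξ) := by
      rw [hc, Spec.map_comp]
    change Spec.map ψ ≫ φ = _
    rw [e2, Category.assoc, hφg, ← Category.assoc]
    congr 1
    rw [← cancel_mono U₀.ι, Category.assoc, ha, Scheme.Opens.fromSpecStalkOfMem_ι,
      ← Category.assoc, ← e2]
    exact Scheme.SpecMap_stalkSpecializes_fromSpecStalk hsp)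
  obtain ⟨g, ⟨hg, hgk⟩, huniq⟩ := key
  refine ⟨g, ⟨hg, by rw [← cancel_epi e.hom, reassoc_of% hej, hgk]⟩, fun g₂ ⟨h1, h2⟩ => ?_⟩
  exact huniq g₂ ⟨h1, by rw [← hej, Category.assoc, h2]⟩

end Groth.Agent.Lib.WeilExt.LftPoints
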