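import Mathlib.RingTheory.Ideal.KrullsHeightTheorem
import Mathlib.RingTheory.Localization.NumDen
import Mathlib.AlgebraicGeometry.FunctionField
import Mathlib.AlgebraicGeometry.AffineScheme

/-!
# Poles of rational functions and restriction to a closed subscheme

If a rational function on a factorial local ring `O` is regular at the preimages of all primes of
height at most one of a Noetherian local domain `B` under a local homomorphism `O → B`, it is
regular.  This is the algebraic core of Weil's extension theorem.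
-/

universe u

open CategoryTheory AlgebraicGeometry TopologicalSpace Opposite

namespace Groth.Agent.Lib.WeilExt.Algebra

theorem mem_range_of_forall {O B K : Type u} [CommRing O] [IsDomain O] [UniqueFactorizationMonoid O]
    [CommRing B] [IsDomain B] [IsNoetherianRing B] (δ : O →+* B) [IsLocalHom δ]
    [Field K] [Algebra O K] [IsFractionRing O K] (φ : K)
    (h : ∀ q : Ideal B, q.IsPrime → q.height ≤ 1 →
      ∃ c d : O, δ d ∉ q ∧ φ * algebraMap O K d = algebraMap O K c) :
    φ ∈ (algebraMap O K).range := by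
  obtain ⟨a, b, hco, hab⟩ := IsFractionRing.exists_reduced_fraction O φ
  by_cases hb : IsUnit (b : O)
  · obtain ⟨u, hu⟩ := hb
    refine ⟨a * ((u⁻¹ : Oˣ) : O), ?_⟩
    rw [← hab, IsLocalization.eq_mk'_iff_mul_eq, ← map_mul, mul_assoc, ← hu, Units.inv_mul,
      mul_one]
  · exfalso
    obtain ⟨π, hπ, hπb⟩ := WfDvdMonoid.exists_irreducible_factor hb (nonZeroDivisors.ne_zero b.2)
    have hπu : ¬ IsUnit (δ π) := fun hu => hπ.not_isUnit (IsLocalHom.map_nonunit π hu)
    obtain ⟨m, hm, hle⟩ := Ideal.exists_le_maximal (Ideal.span {δ π})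
      (by rwa [ne_eq, Ideal.span_singleton_eq_top])
    have := hm.isPrime
    obtain ⟨q, hq, -⟩ := Ideal.exists_minimalPrimes_le hle
    obtain ⟨c, d, hd, hcd⟩ := h q hq.isPrime
      (Ideal.height_le_one_of_isPrincipal_of_mem_minimalPrimes _ q hq)
    have hmain : a * d = c * (b : O) := by
      apply IsFractionRing.injective O K
      rw [map_mul, map_mul, ← hcd, mul_right_comm, ← hab, IsLocalization.mk'_spec]
    have hπad : π ∣ a * d := hmain ▸ dvd_mul_of_dvd_right hπb c
    rcases hπ.prime.dvd_or_dvd hπad with hπa | hπd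
    · exact hπ.not_isUnit (hco hπa hπb)
    · refine hd (hq.le (Ideal.mem_span_singleton.mpr ?_))
      exact map_dvd δ hπd

/-- Extension of a morphism from an open of the spectrum of a factorial local domain to an affine
scheme, when the open contains the images of the points of height at most one of `B`. -/
theorem exists_extension {O B : CommRingCat.{u}} [IsDomain O] [UniqueFactorizationMonoid O]
    [IsDomain B] [IsNoetherianRing B] (δ : O ⟶ B) [IsLocalHom δ.hom] {Ω : Scheme.{u}} [IsAffine Ω]
    (V : (Spec O).Opens) (h : (V : Scheme.{u}) ⟶ Ω)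
    (hV : ∀ y : PrimeSpectrum B, y.asIdeal.height ≤ 1 → Spec.map δ y ∈ V) :
    ∃ g : Spec O ⟶ Ω, V.ι ≫ g = h := by
  let η : PrimeSpectrum B := ⟨⊥, Ideal.isPrime_bot⟩
  have hne : Nonempty V := ⟨⟨_, hV η (by
    change Ideal.height (⊥ : Ideal B) ≤ 1
    simp)⟩⟩
  let res : O ⟶ Γ(Spec O, V) :=
    (Scheme.ΓSpecIso O).inv ≫ (Spec O).presheaf.map (homOfLE le_top).op
  have hres : ∀ o, (Spec O).germToFunctionField V (res o) =
      algebraMap O (Spec O).functionField o := by
    intro o
    rw [← ConcreteCategory.comp_apply]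
    simp only [res, Scheme.germToFunctionField, Category.assoc, TopCat.Presheaf.germ_res]
    rfl
  have hinj : Function.Injective res.hom := by
    intro a b hab
    apply IsFractionRing.injective O (Spec O).functionField
    rw [← hres, ← hres]
    exact congrArg _ hab
  let w : Γ(Ω, ⊤) ⟶ Γ(Spec O, V) := h.appTop ≫ V.topIso.hom
  have hw : ∀ a, w a ∈ res.hom.range := by
    intro a
    obtain ⟨o, ho⟩ := mem_range_of_forall δ.hom ((Spec O).germToFunctionField V (w a)) (by
      intro q hq hq1
      have hy := hV ⟨q, hq⟩ hq1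
      obtain ⟨_, ⟨d, rfl⟩, hd, hle⟩ :=
        PrimeSpectrum.isTopologicalBasis_basic_opens.exists_subset_of_mem_open hy V.isOpen
      let Dd : (Spec O).Opens := PrimeSpectrum.basicOpen d
      have hneD : Nonempty Dd := ⟨⟨_, hd⟩⟩
      have : IsLocalization.Away d Γ(Spec O, Dd) :=
        inferInstanceAs (IsLocalization.Away d Γ(Spec O, PrimeSpectrum.basicOpen d))
      let s : Γ(Spec O, Dd) := (Spec O).presheaf.map (homOfLE (show Dd ≤ V from hle)).op (w a)
      obtain ⟨n, c, hc⟩ := IsLocalization.Away.surj d s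
      refine ⟨c, d ^ n, fun hm => hd (hq.mem_of_pow_mem n (by rwa [← map_pow])), ?_⟩
      have hD : ∀ o, (Spec O).germToFunctionField Dd (algebraMap O Γ(Spec O, Dd) o) =
          algebraMap O (Spec O).functionField o := by
        intro o
        rw [IsAffineOpen.algebraMap_Spec_obj, ← ConcreteCategory.comp_apply]
        simp only [Scheme.germToFunctionField, Category.assoc, TopCat.Presheaf.germ_res]
        rfl
      have hs : (Spec O).germToFunctionField V (w a) = (Spec O).germToFunctionField Dd s := by
        simp only [s, Scheme.germToFunctionField, TopCat.Presheaf.germ_res_apply]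
      rw [hs, map_pow, ← hD d, ← hD c, ← map_pow, ← map_mul, hc])
    refine ⟨o, (Spec O).germToFunctionField_injective V ?_⟩
    rw [← ho]
    exact hres o
  choose ψ hψ using hw
  let ψ' : Γ(Ω, ⊤) →+* O :=
    { toFun := ψ
      map_one' := hinj (by rw [hψ, map_one, map_one])
      map_mul' := fun x y => hinj (by rw [map_mul, hψ, hψ, hψ, map_mul])
      map_zero' := hinj (by rw [hψ, map_zero, map_zero])
      map_add' := fun x y => hinj (by rw [map_add, hψ, hψ, hψ, map_add]) }
  refine ⟨Spec.map (CommRingCat.ofHom ψ') ≫ Ω.isoSpec.inv, ext_of_isAffine ?_⟩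
  have e : Ω.isoSpec.inv.appTop = (Scheme.ΓSpecIso Γ(Ω, ⊤)).inv := by
    rw [← cancel_mono (Scheme.ΓSpecIso Γ(Ω, ⊤)).hom, Iso.inv_hom_id]
    have := Scheme.toSpecΓ_appTop Ω
    rw [← this]
    have h2 : (Ω.isoSpec.hom ≫ Ω.isoSpec.inv).appTop = 𝟙 _ := by rw [Iso.hom_inv_id]; rfl
    rw [Scheme.Hom.comp_appTop] at h2
    exact h2
  rw [Scheme.Hom.comp_appTop, Scheme.Hom.comp_appTop, e, Category.assoc,
    ← Scheme.ΓSpecIso_inv_naturality_assoc,
    ← cancel_mono V.topIso.hom, Category.assoc, Category.assoc]
  have hres' : (Scheme.ΓSpecIso O).inv ≫ V.ι.appTop ≫ V.topIso.hom = res := by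
    simp [res]
    refine ((Spec O).presheaf.map_comp _ _).symm.trans ?_
    rfl
  rw [hres']
  exact CommRingCat.hom_ext (RingHom.ext fun a => hψ a)

end Groth.Agent.Lib.WeilExt.Algebra
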