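import Groth.Agent.Lib.WeilExt.Local
import Groth.Agent.H4.KernelSquare
import Groth.Agent.Lib.JacCrit.OverField
import Groth.Agent.Lib.EtaleSection.Sections
import Mathlib.AlgebraicGeometry.Morphisms.LocalFlatDescent
import Mathlib.AlgebraicGeometry.Sites.Fpqc

/-!
# The Néron mapping property of an extension

Morphisms on the generic fibre of a smooth scheme into an extension of two group schemes with the
mapping property extend after an étale covering, hence, by uniqueness, everywhere.
-/

universe u

open CategoryTheory CategoryTheory.Limits MonoidalCategory CartesianMonoidalCategory MonObj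
open AlgebraicGeometry

namespace Groth.Agent.Lib.WeilExt.Extension

variable {S T : Scheme.{u}} (p : T ⟶ S)

/-- The pullback of a scheme over the base, as a scheme over the base. -/
noncomputable abbrev W (Y : Over S) : Over S := Over.mk (pullback.fst Y.hom p ≫ Y.hom)

/-- The projection of the pullback. -/
noncomputable abbrev pr (Y : Over S) : W p Y ⟶ Y := Over.homMk (pullback.fst Y.hom p) rfl

/-- Functoriality of the pullback. -/
noncomputable abbrev Wmap {Y Z : Over S} (f : Y ⟶ Z) : W p Y ⟶ W p Z :=
  Over.homMk (pullback.lift (pullback.fst Y.hom p ≫ f.left) (pullback.snd Y.hom p)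
    (by rw [Category.assoc, Over.w f, pullback.condition])) (by
    change _ ≫ pullback.fst Z.hom p ≫ Z.hom = pullback.fst Y.hom p ≫ Y.hom
    rw [pullback.lift_fst_assoc, Category.assoc, Over.w f])

theorem Wmap_pr {Y Z : Over S} (f : Y ⟶ Z) : Wmap p f ≫ pr p Z = pr p Y ≫ f := by
  apply Over.OverMorphism.ext
  exact pullback.lift_fst _ _ _

theorem Wmap_comp {X Y Z : Over S} (f : X ⟶ Y) (g : Y ⟶ Z) :
    Wmap p (f ≫ g) = Wmap p f ≫ Wmap p g := by
  apply Over.OverMorphism.ext
  change pullback.lift (pullback.fst X.hom p ≫ f.left ≫ g.left) (pullback.snd X.hom p) _ =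
    pullback.lift (pullback.fst X.hom p ≫ f.left) (pullback.snd X.hom p) _ ≫
      pullback.lift (pullback.fst Y.hom p ≫ g.left) (pullback.snd Y.hom p) _
  apply pullback.hom_ext
  · rw [pullback.lift_fst, Category.assoc, pullback.lift_fst, pullback.lift_fst_assoc,
      Category.assoc]
  · rw [pullback.lift_snd, Category.assoc, pullback.lift_snd, pullback.lift_snd]

theorem exists_ext {Y N : Over S}
    (h : Function.Surjective (fun g : Y ⟶ N => (Over.pullback p).map g)) (k : W p Y ⟶ N) :
    ∃ g : Y ⟶ N, pr p Y ≫ g = k := by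
  obtain ⟨g, hg⟩ := h (Over.homMk (pullback.lift k.left (pullback.snd Y.hom p)
    ((Over.w k).trans pullback.condition)) (pullback.lift_snd _ _ _))
  refine ⟨g, Over.OverMorphism.ext ?_⟩
  have := congrArg (fun m => CommaMorphism.left m ≫ pullback.fst N.hom p) hg
  simp only [Over.pullback_map_left, Over.homMk_left, pullback.lift_fst] at this
  exact this

variable [IsIntegral S] [IsNoetherian S]

theorem ext_pr (hreg : ∀ s : S, IsRegularLocalRing (S.presheaf.stalk s)) {Y N : Over S}
    [Smooth Y.hom] [IsSeparated N.hom] (f g : Y ⟶ N)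
    (h : pr (S.fromSpecStalk (genericPoint S)) Y ≫ f =
      pr (S.fromSpecStalk (genericPoint S)) Y ≫ g) : f = g := by
  have : IsLocallyNoetherian Y.left := LocallyOfFiniteType.isLocallyNoetherian Y.hom
  have : ∀ y : Y.left, IsDomain (Y.left.presheaf.stalk y) := Local.isDomain_stalk hreg Y.hom
  have : IsReduced Y.left := Local.isReduced_of_domain
  apply Over.OverMorphism.ext
  refine Local.eq_of_fromSpecStalk N.hom f.left g.left ((Over.w f).trans (Over.w g).symm)
    fun ξ hξ => ?_
  obtain ⟨l, hl⟩ := Local.exists_stalk_lift Y.hom ξ (genericPoint S) (Local.apply_minimal Y.hom hξ)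
  rw [← hl, Category.assoc, Category.assoc]
  exact congrArg (fun m => l ≫ CommaMorphism.left m) h

theorem lftProperty (hreg : ∀ s : S, IsRegularLocalRing (S.presheaf.stalk s))
    (G' G G'' : Over S) [GrpObj G'] [GrpObj G] [GrpObj G''] [Smooth G'.hom] [Smooth G.hom]
    [IsSeparated G.hom] [Smooth G''.hom]
    (i : G' ⟶ G) (q : G ⟶ G'') [IsMonHom i] [IsMonHom q]
    (hker : AlgGrp.IsKernel i q) [Flat q.left] [Surjective q.left]
    (hG' : ∀ Y : Over S, Smooth Y.hom → Function.Surjective
      (fun g : Y ⟶ G' => (Over.pullback (S.fromSpecStalk (genericPoint S))).map g))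
    (hG'' : ∀ Y : Over S, Smooth Y.hom → Function.Surjective
      (fun g : Y ⟶ G'' => (Over.pullback (S.fromSpecStalk (genericPoint S))).map g))
    (Y : Over S) [hY : Smooth Y.hom] :
    Function.Bijective
      (fun g : Y ⟶ G => (Over.pullback (S.fromSpecStalk (genericPoint S))).map g) := by
  let p := S.fromSpecStalk (genericPoint S)
  have hinjective : ∀ f g : Y ⟶ G, (Over.pullback p).map f = (Over.pullback p).map g → f = g := by
    intro f g h
    refine ext_pr hreg f g (Over.OverMorphism.ext ?_)
    have := congrArg (fun m => CommaMorphism.left m ≫ pullback.fst G.hom p) h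
    simp only [Over.pullback_map_left, pullback.lift_fst] at this
    exact this
  refine ⟨hinjective, fun k' => ?_⟩
  suffices hk : ∀ k : W p Y ⟶ G, ∃ g : Y ⟶ G, pr p Y ≫ g = k by
    obtain ⟨g, hg⟩ := hk (Over.homMk (k'.left ≫ pullback.fst G.hom p) (by
      change (_ ≫ _) ≫ G.hom = pullback.fst Y.hom p ≫ Y.hom
      rw [Category.assoc, pullback.condition, ← Category.assoc]
      exact (congrArg (· ≫ p) (Over.w k')).trans pullback.condition.symm))
    refine ⟨g, Over.OverMorphism.ext (pullback.hom_ext ?_ ?_)⟩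
    · exact (pullback.lift_fst _ _ _).trans (congrArg CommaMorphism.left hg)
    · exact (Over.w ((Over.pullback p).map g)).trans (Over.w k').symm
  intro k
  obtain ⟨g'', hg''⟩ := exists_ext p (hG'' Y hY) (k ≫ q)
  -- the morphism to the quotient lifts étale locally
  have : LocallyOfFinitePresentation q.left :=
    have : LocallyOfFiniteType (q.left ≫ G''.hom) := by rw [Over.w q]; infer_instance
    have : LocallyOfFiniteType q.left := locallyOfFiniteType_of_comp q.left G''.hom
    have : IsLocallyNoetherian G''.left := LocallyOfFiniteType.isLocallyNoetherian G''.hom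
    Groth.Agent.Lib.JacCrit.OverField.locallyOfFinitePresentation q.left
  have : MorphismProperty.DescendsAlong (@Smooth.{u})
      (@Surjective.{u} ⊓ @Flat.{u} ⊓ @LocallyOfFinitePresentation.{u}) :=
    haveI : IsZariskiLocalAtTarget (@Smooth.{u}) :=
      HasRingHomProperty.instIsZariskiLocalAtTarget (P := @Smooth.{u}) (Q := @RingHom.Smooth)
    instDescendsAlongSchemeMinMorphismPropertySurjectiveFlatLocallyOfFinitePresentationOfQuasiCompactOfIsZariskiLocalAtTarget
      (@Smooth.{u})
  have : Smooth q.left :=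
    MorphismProperty.DescendsAlong.of_isPullback
      (Q := @Surjective.{u} ⊓ @Flat.{u} ⊓ @LocallyOfFinitePresentation.{u})
      (Groth.Agent.H4.KernelSquare.isPullback_left q i hker)
      ⟨⟨inferInstance, inferInstance⟩, inferInstance⟩
      (Groth.Agent.Lib.GrpSch.fst_left_of (P := @Smooth) G inferInstance)
  have : Surjective (pullback.fst g''.left q.left) :=
    MorphismProperty.pullback_fst _ _ inferInstance
  obtain ⟨Y₁, e₀, h, he, hes, heh⟩ :=
    Groth.Agent.Lib.EtaleSection.Sections.exists_etale_surjective_section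
      (pullback.fst g''.left q.left)
  let Y' : Over S := Over.mk (e₀ ≫ Y.hom)
  have hY' : Smooth Y'.hom := inferInstanceAs (Smooth (e₀ ≫ Y.hom))
  let e : Y' ⟶ Y := Over.homMk e₀ rfl
  let s : Y' ⟶ G := Over.homMk (h ≫ pullback.snd g''.left q.left) (by
    change _ = e₀ ≫ Y.hom
    rw [Category.assoc, ← Over.w q, ← pullback.condition_assoc, Over.w g'', ← Category.assoc, heh])
  have hs : s ≫ q = e ≫ g'' := by
    apply Over.OverMorphism.ext
    change (h ≫ _) ≫ q.left = e₀ ≫ g''.left
    rw [Category.assoc, ← pullback.condition, ← Category.assoc, heh]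
  -- correct the lift by a point of the kernel
  let d : W p Y' ⟶ G := (pr p Y' ≫ s)⁻¹ * (Wmap p e ≫ k)
  have hd : d ≫ q = toUnit _ ≫ η[G''] := by
    rw [MonObj.mul_comp, GrpObj.inv_comp, Category.assoc, Category.assoc, hs, ← hg'',
      ← Category.assoc, ← Category.assoc, Wmap_pr, inv_mul_cancel, MonObj.one_eq_one,
      MonObj.comp_one]
  obtain ⟨m, hm⟩ := exists_ext p (hG' Y' hY') (hker.lift d (toUnit _) hd)
  let g' : Y' ⟶ G := s * (m ≫ i)
  have hg' : pr p Y' ≫ g' = Wmap p e ≫ k := by
    rw [MonObj.comp_mul, ← Category.assoc (pr p Y') m i, hm, hker.lift_fst, mul_inv_cancel_left]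
  -- descend
  let P : Over S := Over.mk (pullback.fst e₀ e₀ ≫ Y'.hom)
  have hP : Smooth P.hom := inferInstanceAs (Smooth (pullback.fst e₀ e₀ ≫ e₀ ≫ Y.hom))
  let a : P ⟶ Y' := Over.homMk (pullback.fst e₀ e₀) rfl
  let b : P ⟶ Y' := Over.homMk (pullback.snd e₀ e₀) (by
    change pullback.snd e₀ e₀ ≫ e₀ ≫ Y.hom = pullback.fst e₀ e₀ ≫ e₀ ≫ Y.hom
    rw [pullback.condition_assoc])
  have hab : a ≫ e = b ≫ e := Over.OverMorphism.ext pullback.condition
  have hag : a ≫ g' = b ≫ g' := by
    refine ext_pr hreg _ _ ?_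
    rw [← reassoc_of% (Wmap_pr p a), ← reassoc_of% (Wmap_pr p b), hg', ← Category.assoc,
      ← Category.assoc, ← Wmap_comp, ← Wmap_comp, hab]
  have hd' : ∀ {Z : Scheme.{u}} (g₁ g₂ : Z ⟶ Y₁), g₁ ≫ e₀ = g₂ ≫ e₀ →
      g₁ ≫ g'.left = g₂ ≫ g'.left := fun g₁ g₂ e => by
    have := congrArg (fun m => pullback.lift g₁ g₂ e ≫ CommaMorphism.left m) hag
    simp only [Over.comp_left, a, b, Over.homMk_left, pullback.lift_fst_assoc,
      pullback.lift_snd_assoc] at this
    exact this
  let f := EffectiveEpi.desc e₀ g'.left hd'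
  have hf : e₀ ≫ f = g'.left := EffectiveEpi.fac _ _ _
  refine ⟨Over.homMk f (by rw [← cancel_epi e₀, reassoc_of% hf]; exact Over.w g'), ?_⟩
  have hbc : IsPullback (Wmap p e).left (pullback.fst Y'.hom p) (pullback.fst Y.hom p) e₀ := by
    refine (IsPullback.of_right (h₁₂ := pullback.snd Y.hom p) (v₁₁ := pullback.fst Y'.hom p)
      (h₂₂ := Y.hom) ?_ (pullback.lift_fst _ _ _) (IsPullback.of_hasPullback Y.hom p).flip)
    exact (IsPullback.of_hasPullback Y'.hom p).flip.of_iso (Iso.refl _) (Iso.refl _) (Iso.refl _)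
      (Iso.refl _) (by simp; exact (pullback.lift_snd _ _ _).symm) (by simp) (by simp) (by simp; rfl)
  have : Flat (Wmap p e).left := MorphismProperty.of_isPullback hbc.flip inferInstance
  have : Surjective (Wmap p e).left := MorphismProperty.of_isPullback hbc.flip inferInstance
  have : LocallyOfFinitePresentation (Wmap p e).left :=
    MorphismProperty.of_isPullback hbc.flip inferInstance
  apply Over.OverMorphism.ext
  rw [← cancel_epi (Wmap p e).left]
  refine Eq.trans ?_ (congrArg CommaMorphism.left hg')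
  change (Wmap p e).left ≫ pullback.fst Y.hom p ≫ f = pullback.fst Y'.hom p ≫ g'.left
  rw [← hf, ← Category.assoc, ← Category.assoc]
  exact congrArg (· ≫ f) (congrArg CommaMorphism.left (Wmap_pr p e))

end Groth.Agent.Lib.WeilExt.Extension
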