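import Groth.Agent.Lib.WeilExt.Extend
import Groth.Agent.Lib.SchDense.Basic
import Groth.Agent.H4.RatExt
import Mathlib.AlgebraicGeometry.Morphisms.Proper
import Mathlib.AlgebraicGeometry.Morphisms.Preimmersion

/-!
# Extension of rational maps into proper group schemes over a Dedekind domain
-/

universe u

open CategoryTheory CategoryTheory.Limits MonoidalCategory CartesianMonoidalCategory MonObj
open AlgebraicGeometry TopologicalSpace

namespace Groth.Agent.Lib.WeilExt.Generic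

open Groth.Agent.Lib.WeilExt.Basic Groth.Agent.Lib.WeilExt.Extend

/-- Generic points: points without proper generization. -/
def IsMinimalPt {X : Scheme.{u}} (ξ : X) : Prop := ∀ z, z ⤳ ξ → z = ξ

theorem exists_isMinimalPt {X : Scheme.{u}} (x : X) : ∃ ξ, ξ ⤳ x ∧ IsMinimalPt ξ := by
  let C := irreducibleComponent x
  have hC : IsIrreducible C := isIrreducible_irreducibleComponent
  have hgen := hC.isGenericPoint_genericPoint_closure
  rw [isClosed_irreducibleComponent.closure_eq] at hgen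
  refine ⟨hC.genericPoint, hgen.specializes mem_irreducibleComponent, fun z hz => ?_⟩
  have hsub : C ⊆ closure {z} := by
    change irreducibleComponent x ⊆ _
    rw [← hgen.def]
    exact closure_minimal (Set.singleton_subset_iff.mpr hz.mem_closure) isClosed_closure
  have hCmax : closure {z} = C :=
    (irreducibleComponent_property x).2.2 _ isIrreducible_singleton.closure.2 hsub
  have h1 : IsGenericPoint z C := hCmax
  exact h1.eq hgen

theorem dense_isMinimalPt (X : Scheme.{u}) : Dense {ξ : X | IsMinimalPt ξ} := fun x => by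
  obtain ⟨ξ, hξ, hmin⟩ := exists_isMinimalPt x
  exact closure_mono (Set.singleton_subset_iff.mpr hmin) hξ.mem_closure

variable {R : Type u} [CommRing R] [IsDedekindDomain R]
  {X : Scheme.{u}} (pX : X ⟶ Spec (CommRingCat.of R))

theorem apply_minimal [Flat pX] {ξ : X} (hξ : IsMinimalPt ξ) :
    (pX ξ : PrimeSpectrum R).asIdeal = ⊥ := by
  let b0 : PrimeSpectrum R := ⟨⊥, Ideal.isPrime_bot⟩
  have hs : (b0 : Spec (CommRingCat.of R)) ⤳ pX ξ :=
    (PrimeSpectrum.le_iff_specializes b0 (pX ξ)).mp bot_le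
  obtain ⟨z, hz, hze⟩ := Flat.generalizingMap pX hs
  rw [hξ z hz] at hze
  rw [hze]

/-- A point of a scheme smooth over a Dedekind domain which is minimal in its fibre has a local
ring of dimension at most one. -/
theorem ringKrullDim_stalk_le_one [IsLocallyNoetherian X] [Flat pX] {y : X}
    (hy : ∀ z, z ⤳ y → pX z = pX y → z = y) : ringKrullDim (X.presheaf.stalk y) ≤ 1 := by
  let s : PrimeSpectrum R := pX y
  let ψ : CommRingCat.of R ⟶ X.presheaf.stalk y := Spec.preimage (X.fromSpecStalk y ≫ pX)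
  have hψ : Spec.map ψ = X.fromSpecStalk y ≫ pX := Spec.map_preimage _
  let m : Spec (X.presheaf.stalk y) := IsLocalRing.closedPoint _
  rw [← IsLocalRing.maximalIdeal_height_eq_ringKrullDim]
  refine WithBot.coe_le_coe.mpr (le_trans ?_ (le_refl (1 : ℕ∞)))
  -- points of the local ring lying in the fibre of `y` are closed
  have hfib : ∀ q : Spec (X.presheaf.stalk y), Spec.map ψ q = s → q = m := by
    intro q hq
    apply (X.fromSpecStalk y).isEmbedding.injective
    rw [Scheme.fromSpecStalk_closedPoint]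
    refine hy _ ?_ ?_
    · have : X.fromSpecStalk y q ∈ Set.range (X.fromSpecStalk y) := ⟨q, rfl⟩
      rwa [Scheme.range_fromSpecStalk] at this
    · rw [← Scheme.Hom.comp_apply, ← hψ]
      exact hq
  by_cases hs : s.asIdeal = ⊥
  · -- the closed point is minimal
    have hmin : IsLocalRing.maximalIdeal (X.presheaf.stalk y) ∈
        minimalPrimes (X.presheaf.stalk y) := by
      rw [minimalPrimes]
      refine ⟨⟨IsLocalRing.maximalIdeal.isMaximal _ |>.isPrime, bot_le⟩, fun q hq hle => ?_⟩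
      have := hq.1
      have hle' : q.comap ψ.hom ≤ s.asIdeal := by
        have e : Spec.map ψ m = s := by
          rw [hψ, Scheme.Hom.comp_apply, Scheme.fromSpecStalk_closedPoint]
        rw [← congrArg PrimeSpectrum.asIdeal e]
        exact Ideal.comap_mono hle
      have := hfib ⟨q, hq.1⟩ (PrimeSpectrum.ext ((le_bot_iff.mp (hs ▸ hle')).trans hs.symm))
      exact (congrArg PrimeSpectrum.asIdeal this).ge
    exact (Ideal.height_eq_zero_iff.mpr hmin).le.trans zero_le_one
  · obtain ⟨a, ha, ha0⟩ := Submodule.exists_mem_ne_zero_of_ne_bot hs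
    refine Ideal.height_le_one_of_isPrincipal_of_mem_minimalPrimes (Ideal.span {ψ.hom a}) _ ?_
    have e : Spec.map ψ m = s := by
      rw [hψ, Scheme.Hom.comp_apply, Scheme.fromSpecStalk_closedPoint]
    refine ⟨⟨IsLocalRing.maximalIdeal.isMaximal _ |>.isPrime, ?_⟩, fun q hq hle => ?_⟩
    · rw [Ideal.span_singleton_le_iff_mem]
      have : a ∈ (Spec.map ψ m : PrimeSpectrum R).asIdeal := e.symm ▸ ha
      exact this
    · haveI := hq.1
      have hle' : q.comap ψ.hom ≤ s.asIdeal := by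
        rw [← congrArg PrimeSpectrum.asIdeal e]
        exact Ideal.comap_mono hle
      have hne : q.comap ψ.hom ≠ ⊥ := fun h => ha0 (by
        have : a ∈ q.comap ψ.hom := hq.2 (Ideal.subset_span rfl)
        rwa [h, Ideal.mem_bot] at this)
      have hmax : (q.comap ψ.hom).IsMaximal := Ideal.IsPrime.isMaximal inferInstance hne
      have := hfib ⟨q, hq.1⟩ (PrimeSpectrum.ext (hmax.eq_of_le s.isPrime.ne_top hle'))
      exact (congrArg PrimeSpectrum.asIdeal this).ge

/-- An open containing the points of codimension at most one is fibrewise dense. -/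
theorem fibrewise_dense [IsLocallyNoetherian X] [Flat pX] (V : X.Opens)
    (hV : ∀ y : X, ringKrullDim (X.presheaf.stalk y) ≤ 1 → y ∈ V) (x : X) :
    x ∈ closure ((V : Set X) ∩ {y | pX.base y = pX.base x}) := by
  obtain ⟨w, hw⟩ : x ∈ Set.range (pX.fiberι (pX x)) := by
    rw [Scheme.Hom.range_fiberι]; rfl
  obtain ⟨ξ, hξw, hmin⟩ := exists_isMinimalPt w
  have hy : pX.fiberι (pX x) ξ ⤳ x := (hξw.map (pX.fiberι (pX x)).continuous).trans (specializes_of_eq hw)
  have hfib : pX (pX.fiberι (pX x) ξ) = pX x := by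
    have : pX.fiberι (pX x) ξ ∈ Set.range (pX.fiberι (pX x)) := ⟨ξ, rfl⟩
    rwa [Scheme.Hom.range_fiberι] at this
  have hmem : pX.fiberι (pX x) ξ ∈ V := by
    refine hV _ (ringKrullDim_stalk_le_one pX fun z hz hze => ?_)
    obtain ⟨v, rfl⟩ : z ∈ Set.range (pX.fiberι (pX x)) := by
      rw [Scheme.Hom.range_fiberι]; exact hze.trans hfib
    rw [hmin v ((pX.fiberι (pX x)).isEmbedding.isInducing.specializes_iff.mp hz)]
  exact closure_mono (Set.singleton_subset_iff.mpr
    (show _ ∈ (V : Set X) ∩ {y | pX.base y = pX.base x} from ⟨hmem, hfib⟩)) hy.mem_closure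

theorem two_le_of_not_le_one [IsLocallyNoetherian X] {y : X}
    (h : ¬ ringKrullDim (X.presheaf.stalk y) ≤ 1) :
    (2 : WithBot ℕ∞) ≤ ringKrullDim (X.presheaf.stalk y) := by
  rw [← IsLocalRing.maximalIdeal_height_eq_ringKrullDim] at h ⊢
  refine WithBot.coe_le_coe.mpr ?_
  have h' : ¬ (IsLocalRing.maximalIdeal (X.presheaf.stalk y)).height ≤ 1 :=
    fun h' => h (WithBot.coe_le_coe.mpr h')
  have := ENat.add_one_le_iff (m := (1 : ℕ∞)) (by simp) |>.mpr (not_le.mp h')
  rwa [one_add_one_eq_two] at this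

/-- A rational map from a smooth scheme to a proper scheme is defined in codimension one. -/
theorem exists_ext_codim_one [Smooth pX] {G : Scheme.{u}} (pG : G ⟶ Spec (CommRingCat.of R))
    [IsProper pG] (U : X.Opens) (hU : Dense (U : Set X)) (f : (U : Scheme.{u}) ⟶ G)
    (hf : f ≫ pG = U.ι ≫ pX) :
    ∃ (V : X.Opens) (hUV : U ≤ V) (g : (V : Scheme.{u}) ⟶ G),
      g ≫ pG = V.ι ≫ pX ∧ X.homOfLE hUV ≫ g = f ∧
      ∀ y : X, ringKrullDim (X.presheaf.stalk y) ≤ 1 → y ∈ V := by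
  have : IsLocallyNoetherian X := isLocallyNoetherian_of_smooth pX
  have : IsReduced X := isReduced_of_smooth pX
  have : IsProper (pullback.snd pG pX) := MorphismProperty.pullback_snd pG pX ‹_›
  obtain ⟨V, hUV, s, hs, hsU, hV⟩ := Groth.Agent.H4.RatExt.exists_ext
    (fun y _ => isRegularLocalRing_stalk pX y) (pullback.snd pG pX)
    (pullback.snd pG pX).isClosedMap U hU (pullback.lift f U.ι hf) (pullback.lift_snd _ _ _)
  refine ⟨V, hUV, s ≫ pullback.fst pG pX, ?_, ?_, hV⟩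
  · rw [Category.assoc, pullback.condition, reassoc_of% hs]
  · rw [reassoc_of% hsU, pullback.lift_fst]

/-- A rational map from a smooth scheme to a proper group scheme is defined everywhere. -/
theorem exists_ext [Smooth pX] {G : Scheme.{u}} (pG : G ⟶ Spec (CommRingCat.of R))
    [GrpObj (Over.mk pG)] [IsProper pG] (U : X.Opens) (hU : Dense (U : Set X))
    (f : (U : Scheme.{u}) ⟶ G) (hf : f ≫ pG = U.ι ≫ pX) :
    ∃! g : X ⟶ G, g ≫ pG = pX ∧ U.ι ≫ g = f := by
  have : IsLocallyNoetherian X := isLocallyNoetherian_of_smooth pX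
  have : IsReduced X := isReduced_of_smooth pX
  obtain ⟨V, hUV, g₁, hg₁, hg₁U, hV⟩ := exists_ext_codim_one pX pG U hU f hf
  obtain ⟨g, ⟨hg, hgV⟩, -⟩ := existsUnique_extension pX pG V g₁ (fibrewise_dense pX V hV)
    (fun y hy => two_le_of_not_le_one fun h => hy (hV y h)) hg₁
  have hgU : U.ι ≫ g = f := by rw [← hg₁U, ← hgV, Scheme.homOfLE_ι_assoc]
  exact ⟨g, ⟨hg, hgU⟩, fun g' ⟨h1, h2⟩ =>
    eq_of_dense pG g' g (h1.trans hg.symm) U hU (h2.trans hgU.symm)⟩

/-- Morphisms agreeing at all generic points agree. -/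
theorem eq_of_minimal {T G S : Scheme.{u}} [IsReduced T] (pG : G ⟶ S) [IsSeparated pG]
    (a b : T ⟶ G) (hab : a ≫ pG = b ≫ pG) {κ : Type u} (L : κ → Scheme.{u}) (l : ∀ i, L i ⟶ T)
    (hd : Dense (⋃ i, Set.range (l i))) (h : ∀ i, l i ≫ a = l i ≫ b) : a = b := by
  have : IsDominant (Sigma.desc l) := by
    refine ⟨Dense.mono ?_ hd⟩
    rintro _ hx
    obtain ⟨i, y, rfl⟩ := Set.mem_iUnion.mp hx
    exact ⟨Sigma.ι L i y, by rw [← Scheme.Hom.comp_apply, Sigma.ι_desc]⟩
  exact ext_of_isDominant_of_isSeparated pG hab (Sigma.desc l) (Sigma.hom_ext _ _ fun i => by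
    rw [Sigma.ι_desc_assoc, Sigma.ι_desc_assoc, h i])

/-- Agreement at the stalks of the generic points. -/
theorem eq_of_fromSpecStalk [Smooth pX] {G : Scheme.{u}} (pG : G ⟶ Spec (CommRingCat.of R))
    [IsSeparated pG] (a b : X ⟶ G) (hab : a ≫ pG = b ≫ pG)
    (h : ∀ ξ : X, IsMinimalPt ξ → X.fromSpecStalk ξ ≫ a = X.fromSpecStalk ξ ≫ b) : a = b := by
  have : IsReduced X := isReduced_of_smooth pX
  refine eq_of_minimal pG a b hab (κ := {ξ : X // IsMinimalPt ξ})
    (fun i => Spec (X.presheaf.stalk i.1)) (fun i => X.fromSpecStalk i.1) ?_ fun i => h i.1 i.2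
  refine Dense.mono (fun ξ hξ => ?_) (dense_isMinimalPt X)
  exact Set.mem_iUnion.mpr ⟨⟨ξ, hξ⟩, IsLocalRing.closedPoint _, Scheme.fromSpecStalk_closedPoint⟩

/-- Morphisms given at the generic points extend. -/
theorem exists_of_generic [Smooth pX] {G : Scheme.{u}} (pG : G ⟶ Spec (CommRingCat.of R))
    [GrpObj (Over.mk pG)] [IsProper pG]
    (φ : ∀ ξ : {ξ : X // IsMinimalPt ξ}, Spec (X.presheaf.stalk ξ.1) ⟶ G)
    (hφ : ∀ ξ, φ ξ ≫ pG = X.fromSpecStalk ξ.1 ≫ pX) :
    ∃ g : X ⟶ G, g ≫ pG = pX ∧ ∀ ξ, X.fromSpecStalk ξ.1 ≫ g = φ ξ := by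
  classical
  have : IsLocallyNoetherian X := isLocallyNoetherian_of_smooth pX
  have hloc : ∀ ξ : {ξ : X // IsMinimalPt ξ}, ∃ (U : X.Opens) (hU : ξ.1 ∈ U)
      (g : (U : Scheme.{u}) ⟶ G), φ ξ = U.fromSpecStalkOfMem ξ.1 hU ≫ g ∧
        g ≫ pG = U.ι ≫ pX ∧ ∀ z ∈ U, ξ.1 ⤳ z ∧ ∀ z', IsMinimalPt z' → z' ⤳ z → z' = ξ.1 := by
    intro ξ
    obtain ⟨U₀, hU₀, g₀, hg₀, hg₀S⟩ := spread_out_of_isGermInjective' pX pG (φ ξ) (hφ ξ)
    have := isRegularLocalRing_stalk pX ξ.1
    have : IsDomain (X.presheaf.stalk ξ.1) := Groth.Agent.Lib.Regular.Quotient.isDomain _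
    obtain ⟨W, hW, hWint⟩ := Groth.Agent.Lib.FinCond.exists_integral_nhd X ξ.1
    refine ⟨U₀ ⊓ W, ⟨hU₀, hW⟩, X.homOfLE inf_le_left ≫ g₀, ?_, ?_, fun z hz => ?_⟩
    · rw [hg₀]
      rw [← Category.assoc]
      congr 1
      rw [← cancel_mono U₀.ι]
      simp
    · rw [Category.assoc, hg₀S, Scheme.homOfLE_ι_assoc]
    · have hgen : W.ι (genericPoint (W : Scheme.{u})) = ξ.1 := ξ.2 _ (by
        have := ((genericPoint_spec (W : Scheme.{u})).specializes
          (y := ⟨ξ.1, hW⟩) trivial).map W.ι.continuous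
        exact this)
      have hall : ∀ w, w ∈ W → ξ.1 ⤳ w := fun w hw => by
        have hh := ((genericPoint_spec (W : Scheme.{u})).specializes
          (Set.mem_univ (⟨w, hw⟩ : (W : Scheme.{u})))).map W.ι.continuous
        rw [hgen] at hh
        exact hh
      refine ⟨hall z hz.2, fun z' hz' hs => ?_⟩
      exact (hz' _ (hall z' (hs.mem_open W.isOpen hz.2))).symm
  choose U hξU g₀ hφg hg₀S hsep using hloc
  have hdisj : ∀ i j, i ≠ j → U i ⊓ U j = ⊥ := fun i j hne => by
    ext z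
    simp only [Opens.coe_bot, Set.mem_empty_iff_false, iff_false]
    rintro ⟨hi, hj⟩
    exact hne (Subtype.ext ((hsep j z hj).2 i.1 i.2 (hsep i z hi).1))
  obtain ⟨g₁, hg₁⟩ := Groth.Agent.H26.SectionExtend.exists_glue U g₀ fun i j => by
    by_cases h : i = j
    · subst h; rfl
    · have : IsEmpty ((U i ⊓ U j : X.Opens) : Scheme.{u}) := ⟨fun z =>
        (Set.ext_iff.mp (congrArg (fun O : X.Opens => (O : Set X)) (hdisj i j h)) z.1).mp z.2⟩
      exact isInitialOfIsEmpty.hom_ext _ _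
  have hdense : Dense ((⨆ i, U i : X.Opens) : Set X) := by
    refine Dense.mono (fun ξ hξ => ?_) (dense_isMinimalPt X)
    exact Opens.mem_iSup.mpr ⟨⟨ξ, hξ⟩, hξU ⟨ξ, hξ⟩⟩
  have hg₁S : g₁ ≫ pG = (⨆ i, U i : X.Opens).ι ≫ pX :=
    (Scheme.Opens.iSupOpenCover U).hom_ext _ _ fun i => by
      change X.homOfLE (le_iSup U i) ≫ g₁ ≫ pG = X.homOfLE (le_iSup U i) ≫ _
      rw [reassoc_of% hg₁ i, hg₀S, Scheme.homOfLE_ι_assoc]
  obtain ⟨g, ⟨hg, hgU⟩, -⟩ := exists_ext pX pG _ hdense g₁ hg₁S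
  refine ⟨g, hg, fun ξ => ?_⟩
  rw [hφg ξ, ← Scheme.Opens.fromSpecStalkOfMem_ι, Category.assoc,
    show (U ξ).ι ≫ g = g₀ ξ by rw [← Scheme.homOfLE_ι X (le_iSup U ξ), Category.assoc, hgU, hg₁]]

/-- The stalk at a generic point is a point of the generic fibre. -/
theorem exists_genLift [Smooth pX] {ξ : X} (hξ : IsMinimalPt ξ) :
    ∃ l : Spec (X.presheaf.stalk ξ) ⟶ pullback pX (Neron.genPt R),
      l ≫ pullback.fst pX (Neron.genPt R) = X.fromSpecStalk ξ := by
  have := isRegularLocalRing_stalk pX ξ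
  have : IsDomain (X.presheaf.stalk ξ) := Groth.Agent.Lib.Regular.Quotient.isDomain _
  let ψ : CommRingCat.of R ⟶ X.presheaf.stalk ξ := Spec.preimage (X.fromSpecStalk ξ ≫ pX)
  have hψ : Spec.map ψ = X.fromSpecStalk ξ ≫ pX := Spec.map_preimage _
  have hbot : ∀ q : Spec (X.presheaf.stalk ξ),
      (Spec.map ψ q : PrimeSpectrum R).asIdeal = ⊥ := fun q => by
    rw [hψ, Scheme.Hom.comp_apply]
    have hq : X.fromSpecStalk ξ q ⤳ ξ := by
      have : X.fromSpecStalk ξ q ∈ Set.range (X.fromSpecStalk ξ) := ⟨q, rfl⟩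
      rwa [Scheme.range_fromSpecStalk] at this
    rw [hξ _ hq]
    exact apply_minimal pX hξ
  have hu : ∀ r : nonZeroDivisors R, IsUnit (ψ.hom r) := fun r => by
    by_contra hr
    obtain ⟨q, hq, hrq⟩ := exists_max_ideal_of_mem_nonunits hr
    have : (r : R) ∈ (Spec.map ψ (⟨q, hq.isPrime⟩ : PrimeSpectrum _) : PrimeSpectrum R).asIdeal := hrq
    rw [hbot, Ideal.mem_bot] at this
    exact nonZeroDivisors.ne_zero r.2 this
  refine ⟨pullback.lift (X.fromSpecStalk ξ)
    (Spec.map (CommRingCat.ofHom (IsLocalization.lift (S := FractionRing R) hu))) ?_,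
    pullback.lift_fst _ _ _⟩
  rw [← hψ, Neron.genPt, ← Spec.map_comp]
  congr 1
  ext r
  exact (IsLocalization.lift_eq hu r).symm

/-- A morphism on the generic fibre extends uniquely. -/
theorem existsUnique_of_genericFibre [Smooth pX] {G : Scheme.{u}}
    (pG : G ⟶ Spec (CommRingCat.of R)) [GrpObj (Over.mk pG)] [IsProper pG]
    (k : pullback pX (Neron.genPt R) ⟶ G) (hk : k ≫ pG = pullback.fst _ _ ≫ pX) :
    ∃! g : X ⟶ G, g ≫ pG = pX ∧ pullback.fst pX (Neron.genPt R) ≫ g = k := by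
  choose l hl using fun ξ : {ξ : X // IsMinimalPt ξ} => exists_genLift pX ξ.2
  obtain ⟨g, hg, hgl⟩ := exists_of_generic pX pG (fun ξ => l ξ ≫ k)
    (fun ξ => by rw [Category.assoc, hk, reassoc_of% hl ξ])
  have : Smooth (pullback.snd pX (Neron.genPt R)) :=
    MorphismProperty.pullback_snd pX _ ‹_›
  have : IsReduced (pullback pX (Neron.genPt R)) :=
    isReduced_of_smooth (R := FractionRing R) (pullback.snd pX (Neron.genPt R))
  have hemb : IsPreimmersion (pullback.fst pX (Neron.genPt R)) :=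
    MorphismProperty.pullback_fst pX _ (IsPreimmersion.of_isLocalization (nonZeroDivisors R))
  have hd : Dense (⋃ ξ, Set.range (l ξ)) := fun z => by
    obtain ⟨ξ, hξ, hmin⟩ := exists_isMinimalPt (pullback.fst pX (Neron.genPt R) z)
    let v := l ⟨ξ, hmin⟩ (IsLocalRing.closedPoint _)
    have hv : pullback.fst pX (Neron.genPt R) v = ξ := by
      rw [← Scheme.Hom.comp_apply, hl]
      exact Scheme.fromSpecStalk_closedPoint
    have hs : v ⤳ z :=
      (pullback.fst pX (Neron.genPt R)).isEmbedding.isInducing.specializes_iff.mp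
        (hv.symm ▸ hξ)
    exact closure_mono (Set.singleton_subset_iff.mpr
      (show v ∈ ⋃ ξ, Set.range (l ξ) from
        Set.mem_iUnion.mpr ⟨⟨ξ, hmin⟩, _, rfl⟩)) hs.mem_closure
  have hgk : pullback.fst pX (Neron.genPt R) ≫ g = k := by
    refine eq_of_minimal pG _ _ (by rw [Category.assoc, hg, hk]) _ l hd fun ξ => ?_
    rw [reassoc_of% hl ξ, hgl]
  refine ⟨g, ⟨hg, hgk⟩, fun g' ⟨h1, h2⟩ => ?_⟩
  refine eq_of_fromSpecStalk pX pG g' g (h1.trans hg.symm) fun ξ hξ => ?_
  rw [← hl ⟨ξ, hξ⟩, Category.assoc, Category.assoc, h2, hgk]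

end Groth.Agent.Lib.WeilExt.Generic
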